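import Groth.Agent.Lib.Fitting.Basic
import Mathlib.Algebra.Module.FinitePresentation
import Mathlib.RingTheory.Support
import Mathlib.RingTheory.Spectrum.Prime.Basic
import Mathlib.LinearAlgebra.Matrix.Adjugate

/-!
Fitting ideals: zeroth ideal, support, finite generation.
-/

set_option autoImplicit false

namespace GrothLib.Fitting

universe u v

variable {R : Type u} [CommRing R] {M : Type v} [AddCommGroup M] [Module R M]

theorem det_smul_eq_zero_of_rel {ι : Type*} [Fintype ι] [DecidableEq ι] (A : Matrix ι ι R) (y : ι → M)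
    (h : ∀ b, ∑ a, A b a • y a = 0) (c : ι) : A.det • y c = 0 := by
  have h2 : ∑ b, A.adjugate c b • ∑ a, A b a • y a = A.det • y c := by
    simp only [Finset.smul_sum, smul_smul]
    rw [Finset.sum_comm]
    simp only [← Finset.sum_smul, ← Matrix.mul_apply, Matrix.adjugate_mul, Matrix.smul_apply, Matrix.one_apply,
      smul_eq_mul, mul_ite, mul_one, mul_zero, ite_smul, zero_smul, Finset.sum_ite_eq, Finset.mem_univ, if_true]
  rw [← h2, Finset.sum_eq_zero fun b _ => by rw [h b, smul_zero]]

theorem ideal_zero_le_annihilator [Module.Finite R M] : Fitt.ideal R M 0 ≤ Module.annihilator R M := by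
  classical
  obtain ⟨n, x, hx⟩ := exists_tuple R M
  rw [ideal_eq_minors x hx, Nat.sub_zero]
  refine minors_le_iff.2 fun z e hz => Module.mem_annihilator.2 fun y => ?_
  by_cases he : Function.Injective e
  swap
  · obtain ⟨i, j, hij, hne⟩ := Function.not_injective_iff.1 he
    rw [Matrix.det_zero_of_row_eq hne (by ext b; simp [hij]), zero_smul]
  have hb := (Finite.injective_iff_bijective).1 he
  have hy : y ∈ Submodule.span R (Set.range x) := hx ▸ trivial
  obtain ⟨c, rfl⟩ := (Submodule.mem_span_range_iff_exists_fun R).1 hy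
  rw [Finset.smul_sum]
  refine Finset.sum_eq_zero fun i _ => ?_
  obtain ⟨a, rfl⟩ := hb.2 i
  have key := det_smul_eq_zero_of_rel (Matrix.of fun a b => z b (e a)).transpose (x ∘ e) (fun b => by
    simp only [Matrix.transpose_apply, Matrix.of_apply, Function.comp_apply]
    rw [Function.Bijective.sum_comp hb (fun i => z b i • x i)]
    exact mem_rel.1 (hz b)) a
  rw [Matrix.det_transpose] at key
  rw [smul_comm, show _ • x (e a) = 0 from key, smul_zero]

theorem zeroLocus_ideal_zero [Module.Finite R M] :
    PrimeSpectrum.zeroLocus (Fitt.ideal R M 0 : Set R) = Module.support R M := by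
  classical
  ext p
  rw [PrimeSpectrum.mem_zeroLocus, SetLike.coe_subset_coe]
  constructor
  · intro h
    by_contra hp
    obtain ⟨n, x, hx⟩ := exists_tuple R M
    have hp' := Module.notMem_support_iff'.1 hp
    choose r hr hrx using fun i => hp' (x i)
    have hmem : ∏ i, r i ∈ Fitt.ideal R M 0 := by
      rw [ideal_eq_minors x hx, Nat.sub_zero]
      have h1 := det_mem_minors (L := rel (R := R) x) (fun b => Pi.single b (r b)) id (fun b => mem_rel.2 (by
        simp [Pi.single_apply, hrx b]))
      convert h1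
      rw [← Matrix.det_diagonal]
      congr 1
      ext a b
      by_cases hab : a = b <;> simp [Matrix.diagonal, Pi.single_apply, hab]
    obtain ⟨i, -, hi⟩ := (p.2.prod_mem_iff).1 (h hmem)
    exact hr i hi
  · intro hp
    exact ideal_zero_le_annihilator.trans (Module.mem_support_iff_of_finite.1 hp)

theorem ideal_quotient_zero (I : Ideal R) : Fitt.ideal R (R ⧸ I) 0 = I := by
  have hx : Submodule.span R (Set.range fun _ : Fin 1 => (1 : R ⧸ I)) = ⊤ := by
    refine Submodule.eq_top_iff'.2 fun y => ?_
    obtain ⟨r, rfl⟩ := Ideal.Quotient.mk_surjective y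
    rw [show Ideal.Quotient.mk I r = r • (1 : R ⧸ I) by rw [← Algebra.algebraMap_eq_smul_one]; rfl]
    exact Submodule.smul_mem _ _ (Submodule.subset_span ⟨0, rfl⟩)
  have hmem : ∀ z : Fin 1 → R, z ∈ rel (R := R) (fun _ : Fin 1 => (1 : R ⧸ I)) ↔ z 0 ∈ I := fun z => by
    rw [mem_rel, Fin.sum_univ_one, ← Algebra.algebraMap_eq_smul_one]
    exact Ideal.Quotient.eq_zero_iff_mem
  rw [ideal_eq_minors _ hx]
  refine le_antisymm (minors_le_iff.2 fun z e hz => ?_) fun r hr => ?_
  · rw [Matrix.det_fin_one, Matrix.of_apply, Subsingleton.elim (e 0) 0]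
    exact (hmem _).1 (hz 0)
  · simpa using det_mem_minors (fun _ _ => r) (fun _ => (0 : Fin 1)) (fun _ => (hmem _).2 hr : ∀ _ : Fin 1, _)

theorem ideal_fg [Module.FinitePresentation R M] (k : ℕ) : (Fitt.ideal R M k).FG := by
  classical
  obtain ⟨n, x, hx⟩ := exists_tuple R M
  obtain ⟨s, hs⟩ : (rel (R := R) x).FG := Module.FinitePresentation.fg_ker _
    (LinearMap.range_eq_top.1 (by rw [Fintype.range_linearCombination, hx]))
  have heq : minors (rel (R := R) x) (n - k) = Ideal.span (Set.range
      fun p : (Fin (n - k) → s) × (Fin (n - k) → Fin n) =>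
        (Matrix.of fun a b => (p.1 b : Fin n → R) (p.2 a)).det) := by
    refine le_antisymm ?_ (Ideal.span_le.2 ?_)
    · rw [← hs]
      exact minors_span_le _ _ _ fun z e hz => Ideal.subset_span ⟨(fun b => ⟨z b, hz b⟩, e), rfl⟩
    · rintro _ ⟨p, rfl⟩
      exact det_mem_minors _ _ fun b => hs ▸ Submodule.subset_span (p.1 b).2
  rw [ideal_eq_minors x hx, heq]
  exact Submodule.fg_span (Set.finite_range _)

end GrothLib.Fitting
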