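import Groth.Agent.Lib.Fitting.BaseChange
import Groth.Agent.Lib.Fitting.Support
import Mathlib.RingTheory.LocalRing.Module
import Mathlib.RingTheory.LocalRing.ResidueField.Ideal
import Mathlib.RingTheory.Localization.Free
import Mathlib.RingTheory.LocalProperties.Projective

/-!
Fitting ideals: number of local generators, local freeness.
-/

set_option autoImplicit false
open TensorProduct

namespace GrothLib.Fitting

universe u v

variable {R : Type u} [CommRing R] {M : Type v} [AddCommGroup M] [Module R M] [Module.Finite R M]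

omit [Module.Finite R M] in
theorem map_eq_top_iff (S : Submonoid R) {A : Type u} [CommRing A] [Algebra R A] [IsLocalization S A] (I : Ideal R) :
    I.map (algebraMap R A) = ⊤ ↔ ¬ Disjoint (S : Set R) (I : Set R) := by
  rw [← not_iff_not, not_not]
  exact IsLocalization.map_algebraMap_ne_top_iff_disjoint S A I

theorem not_le_iff_finrank_fiber_le (k : ℕ) (p : Ideal R) [p.IsPrime] :
    ¬ Fitt.ideal R M k ≤ p ↔ Module.finrank p.ResidueField (p.ResidueField ⊗[R] M) ≤ k := by
  conv_lhs => rw [← Ideal.ker_algebraMap_residueField p, ← Ideal.map_eq_bot_iff_le_ker,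
    ← ideal_baseChange p.ResidueField k, ideal_of_basis (Module.finBasis p.ResidueField _)]
  split_ifs with h
  · simp [h, top_ne_bot]
  · simp [h]

/-- If the fibre at `p` has dimension `≤ k`, then `k` elements generate `M` after inverting some `f ∉ p`. -/
theorem exists_smul_mem_span (k : ℕ) (p : Ideal R) [p.IsPrime]
    (hk : Module.finrank p.ResidueField (p.ResidueField ⊗[R] M) ≤ k) :
    ∃ f ∉ p, ∃ y : Fin k → M, ∀ m : M, f • m ∈ Submodule.span R (Set.range y) := by
  classical
  obtain ⟨n, x, hx⟩ := exists_tuple R M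
  have hspan := span_tmul_eq_top (R' := p.ResidueField) x hx
  obtain ⟨b, hb, hbspan, -⟩ := Submodule.exists_fun_fin_finrank_span_eq p.ResidueField
    (Set.range fun i => (1 : p.ResidueField) ⊗ₜ[R] x i)
  choose σ hσ using hb
  have hk' : Module.finrank p.ResidueField
      (Submodule.span p.ResidueField (Set.range fun i => (1 : p.ResidueField) ⊗ₜ[R] x i)) ≤ k :=
    (Submodule.finrank_le _).trans hk
  let y : Fin k → M := fun i => if h : (i : ℕ) < Module.finrank p.ResidueField
      (Submodule.span p.ResidueField (Set.range fun i => (1 : p.ResidueField) ⊗ₜ[R] x i))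
    then x (σ ⟨i, h⟩) else 0
  set U := Submodule.span R (Set.range y)
  have hy : ∀ j, b j ∈ Submodule.span p.ResidueField (Set.range fun i => (1 : p.ResidueField) ⊗ₜ[R] y i) :=
    fun j => Submodule.subset_span ⟨Fin.castLE hk' j, by simp [y, hσ]⟩
  have hsub : Subsingleton (p.ResidueField ⊗[R] (M ⧸ U)) := by
    refine subsingleton_of_forall_eq 0 fun t => ?_
    obtain ⟨t, rfl⟩ := LinearMap.lTensor_surjective p.ResidueField U.mkQ_surjective t
    have ht : t ∈ Submodule.span p.ResidueField (Set.range fun i => (1 : p.ResidueField) ⊗ₜ[R] y i) :=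
      ((hbspan.trans hspan) ▸ Submodule.span_le.2 (by rintro _ ⟨j, rfl⟩; exact hy j) : (⊤ : Submodule p.ResidueField _) ≤ _)
        trivial
    rw [← LinearMap.baseChange_eq_ltensor (A := p.ResidueField)]
    induction ht using Submodule.span_induction with
    | mem t ht =>
      obtain ⟨i, rfl⟩ := ht
      simp only [LinearMap.baseChange_tmul, Submodule.mkQ_apply,
        (Submodule.Quotient.mk_eq_zero U).2 (Submodule.subset_span ⟨i, rfl⟩ : y i ∈ U), TensorProduct.tmul_zero]
    | zero => exact map_zero _
    | add a c _ _ ha hc => rw [map_add, ha, hc, add_zero]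
    | smul c a _ ha => rw [map_smul, ha, smul_zero]
  have hns : ⟨p, inferInstance⟩ ∉ Module.support R (M ⧸ U) := fun hs => by
    have := (Module.mem_support_iff_nontrivial_residueField_tensorProduct _).1 hs
    exact not_nontrivial_iff_subsingleton.2 hsub this
  choose r hr hrm using fun i => Module.notMem_support_iff'.1 hns (U.mkQ (x i))
  refine ⟨∏ i, r i, fun h => ?_, y, fun m => ?_⟩
  · obtain ⟨i, -, hi⟩ := (‹p.IsPrime›.prod_mem_iff).1 h
    exact hr i hi
  · rw [← Submodule.Quotient.mk_eq_zero, Submodule.Quotient.mk_smul]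
    have hm : m ∈ Submodule.span R (Set.range x) := hx ▸ trivial
    induction hm using Submodule.span_induction with
    | mem m hm =>
      obtain ⟨i, rfl⟩ := hm
      obtain ⟨q, hq⟩ := Finset.dvd_prod_of_mem r (Finset.mem_univ i)
      rw [hq, mul_comm, mul_smul, show r i • (Submodule.Quotient.mk (x i) : M ⧸ U) = 0 from hrm i, smul_zero]
    | zero => rw [Submodule.Quotient.mk_zero, smul_zero]
    | add a c _ _ ha hc => rw [Submodule.Quotient.mk_add, smul_add, ha, hc, add_zero]
    | smul c a _ ha => rw [Submodule.Quotient.mk_smul, smul_comm, ha, smul_zero]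

omit [Module.Finite R M] in
theorem span_localized_eq_top (S : Submonoid R) {k : ℕ} (f : R) (hf : f ∈ S) (y : Fin k → M)
    (hy : ∀ m : M, f • m ∈ Submodule.span R (Set.range y)) :
    Submodule.span (Localization S) (Set.range fun i => LocalizedModule.mkLinearMap S M (y i)) = ⊤ := by
  refine Submodule.eq_top_iff'.2 fun t => ?_
  induction t using LocalizedModule.induction_on with | _ m s
  have h : LocalizedModule.mkLinearMap S M (f • m) ∈
      Submodule.span (Localization S) (Set.range fun i => LocalizedModule.mkLinearMap S M (y i)) := by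
    refine Submodule.span_le_restrictScalars R (Localization S) _ ?_
    rw [show (Set.range fun i => LocalizedModule.mkLinearMap S M (y i)) =
      LocalizedModule.mkLinearMap S M '' Set.range y from Set.range_comp _ y, ← Submodule.map_span]
    exact Submodule.mem_map_of_mem (hy m)
  have heq : LocalizedModule.mk m s =
      (Localization.mk 1 (s * ⟨f, hf⟩ : S)) • LocalizedModule.mkLinearMap S M (f • m) := by
    rw [LocalizedModule.mkLinearMap_apply, LocalizedModule.mk_smul_mk, one_smul, mul_one, LocalizedModule.mk_eq]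
    refine ⟨1, ?_⟩
    simp [Submonoid.smul_def, mul_smul]
  exact heq ▸ Submodule.smul_mem _ _ h

theorem ideal_localized (S : Submonoid R) (k : ℕ) :
    Fitt.ideal (Localization S) (LocalizedModule S M) k = (Fitt.ideal R M k).map (algebraMap R (Localization S)) :=
  ideal_of_isBaseChange (Localization S)
    (IsLocalizedModule.isBaseChange S (Localization S) (LocalizedModule.mkLinearMap S M)) k

theorem not_le_iff_exists_span_atPrime (k : ℕ) (p : Ideal R) [p.IsPrime] :
    ¬ Fitt.ideal R M k ≤ p ↔
      ∃ g : Fin k → LocalizedModule p.primeCompl M, Submodule.span (Localization.AtPrime p) (Set.range g) = ⊤ := by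
  constructor
  · intro h
    obtain ⟨f, hf, y, hy⟩ := exists_smul_mem_span k p ((not_le_iff_finrank_fiber_le k p).1 h)
    exact ⟨_, span_localized_eq_top p.primeCompl f hf y hy⟩
  · rintro ⟨g, hg⟩ hle
    have htop : Fitt.ideal (Localization.AtPrime p) (LocalizedModule p.primeCompl M) k = ⊤ :=
      ideal_eq_top_of_le g hg le_rfl
    rw [ideal_localized p.primeCompl k, map_eq_top_iff p.primeCompl] at htop
    obtain ⟨x, hx, hxF⟩ := Set.not_disjoint_iff.1 htop
    exact hx (hle hxF)

theorem not_le_iff_exists_span_away (k : ℕ) (p : Ideal R) [p.IsPrime] :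
    ¬ Fitt.ideal R M k ≤ p ↔ ∃ f : R, f ∉ p ∧ ∃ g : Fin k → LocalizedModule (Submonoid.powers f) M,
        Submodule.span (Localization.Away f) (Set.range g) = ⊤ := by
  constructor
  · intro h
    obtain ⟨f, hf, y, hy⟩ := exists_smul_mem_span k p ((not_le_iff_finrank_fiber_le k p).1 h)
    exact ⟨f, hf, _, span_localized_eq_top (Submonoid.powers f) f (Submonoid.mem_powers f) y hy⟩
  · rintro ⟨f, hf, g, hg⟩ hle
    have htop : Fitt.ideal (Localization.Away f) (LocalizedModule (Submonoid.powers f) M) k = ⊤ :=
      ideal_eq_top_of_le g hg le_rfl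
    rw [ideal_localized (Submonoid.powers f) k, map_eq_top_iff (Submonoid.powers f)] at htop
    obtain ⟨x, ⟨j, rfl⟩, hxF⟩ := Set.not_disjoint_iff.1 htop
    exact hf (‹p.IsPrime›.mem_of_pow_mem j (hle hxF))

theorem free_near_of_ideal_eq (r : ℕ) (hlow : ∀ k, k < r → Fitt.ideal R M k = ⊥)
    (htop : Fitt.ideal R M r = ⊤) (p : Ideal R) [p.IsPrime] :
    ∃ f : R, f ∉ p ∧ Module.Free (Localization.Away f) (LocalizedModule (Submonoid.powers f) M) ∧
      Module.finrank (Localization.Away f) (LocalizedModule (Submonoid.powers f) M) = r := by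
  obtain ⟨f, hf, g, hg⟩ := (not_le_iff_exists_span_away r p).1 (by rw [htop]; exact fun h => ‹p.IsPrime›.ne_top (top_le_iff.1 h))
  have : Nontrivial (Localization.Away f) := by
    rw [← not_subsingleton_iff_nontrivial, IsLocalization.subsingleton_iff (M := Submonoid.powers f)]
    rintro ⟨j, hj⟩
    have h0 : f ^ j = 0 := hj
    exact hf (‹p.IsPrime›.mem_of_pow_mem j (h0 ▸ p.zero_mem))
  have hli : LinearIndependent (Localization.Away f) g := by
    refine Fintype.linearIndependent_iff.2 fun z hz i => ?_
    have h1 := det_mem_minors (L := rel (R := Localization.Away f) g) (fun _ : Fin 1 => z) (fun _ => i)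
      (fun _ => mem_rel.2 hz)
    have hr : 0 < r := i.pos
    rw [Matrix.det_fin_one, Matrix.of_apply] at h1
    rw [show 1 = r - (r - 1) by omega, ← ideal_eq_minors g hg, ideal_localized, hlow (r - 1) (by omega),
      Ideal.map_bot, Ideal.mem_bot] at h1
    exact h1
  let b := Module.Basis.mk hli (top_le_iff.2 hg)
  exact ⟨f, hf, Module.Free.of_basis b, by rw [Module.finrank_eq_card_basis b, Fintype.card_fin]⟩

theorem ideal_eq_of_free_near (r : ℕ)
    (h : ∀ (p : Ideal R) [p.IsPrime], ∃ f : R, f ∉ p ∧
      Module.Free (Localization.Away f) (LocalizedModule (Submonoid.powers f) M) ∧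
        Module.finrank (Localization.Away f) (LocalizedModule (Submonoid.powers f) M) = r) (k : ℕ) :
    Fitt.ideal R M k = if r ≤ k then ⊤ else ⊥ := by
  have key : ∀ (p : Ideal R) [p.IsPrime], ∃ f : R, f ∉ p ∧
      (Fitt.ideal R M k).map (algebraMap R (Localization.Away f)) = if r ≤ k then ⊤ else ⊥ := by
    intro p _
    obtain ⟨f, hf, hfree, hrank⟩ := h p
    have : Nontrivial (Localization.Away f) := by
      rw [← not_subsingleton_iff_nontrivial, IsLocalization.subsingleton_iff (M := Submonoid.powers f)]
      rintro ⟨j, hj⟩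
      have h0 : f ^ j = 0 := hj
      exact hf (‹p.IsPrime›.mem_of_pow_mem j (h0 ▸ p.zero_mem))
    exact ⟨f, hf, by rw [← ideal_localized, ideal_of_basis ((Module.finBasis _ _).reindex (finCongr hrank))]⟩
  split_ifs with hrk
  · by_contra hne
    obtain ⟨m, hm, hle⟩ := Ideal.exists_le_maximal _ hne
    obtain ⟨f, hf, hmap⟩ := key m
    rw [if_pos hrk, map_eq_top_iff (Submonoid.powers f)] at hmap
    obtain ⟨x, ⟨j, rfl⟩, hxF⟩ := Set.not_disjoint_iff.1 hmap
    exact hf (hm.isPrime.mem_of_pow_mem j (hle hxF))
  · refine (Submodule.eq_bot_iff _).2 fun d hd => ?_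
    by_contra hd0
    have hne : (⊥ : Ideal R).colon {d} ≠ ⊤ := fun htop => hd0 (by
      simpa [Submodule.mem_colon_singleton] using (Ideal.eq_top_iff_one _).1 htop)
    obtain ⟨m, hm, hle⟩ := Ideal.exists_le_maximal _ hne
    obtain ⟨f, hf, hmap⟩ := key m
    rw [if_neg hrk] at hmap
    have := Ideal.mem_map_of_mem (algebraMap R (Localization.Away f)) hd
    rw [hmap, Ideal.mem_bot, IsLocalization.map_eq_zero_iff (Submonoid.powers f)] at this
    obtain ⟨⟨_, j, rfl⟩, hj⟩ := this
    exact hf (hm.isPrime.mem_of_pow_mem j (hle (Submodule.mem_colon_singleton.2 (by simpa using hj))))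

end GrothLib.Fitting
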