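import Groth.Agent.Lib.Fitting.Strict
import Groth.Agent.Lib.Fitting.Local
import Groth.Agent.Lib.BlowUp.Algebra
import Groth.Prelude.Def_FlatCA

/-!
Fitting ideals of strict transforms along affine blow-ups.
-/

set_option autoImplicit false
open TensorProduct

namespace GrothLib.Fitting

universe u

variable {R : Type u} [CommRing R]

theorem mem_powTorsion_iff {M : Type u} [AddCommGroup M] [Module R M] (a : R) (x : M) :
    x ∈ FlatCA.powTorsion R a M ↔ ∃ n : ℕ, a ^ n • x = 0 := by
  rw [FlatCA.powTorsion, Submodule.mem_iSup_of_directed _ (Monotone.directed_le fun i j hij y hy => by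
    rw [Submodule.mem_torsionBy_iff] at hy ⊢
    rw [← Nat.sub_add_cancel hij, pow_add, mul_smul, hy, smul_zero])]
  simp only [Submodule.mem_torsionBy_iff]

theorem blowUp_algebraMap_mem_nonZeroDivisors {I : Ideal R} {a : R} {R₁ : Type u} [CommRing R₁] [Algebra R R₁]
    (e : R₁ ≃ₐ[R] ↥(BlowUp.affineAlgebra R I a)) : algebraMap R R₁ a ∈ nonZeroDivisors R₁ := by
  refine mem_nonZeroDivisors_iff_right.2 fun z hz => e.injective ?_
  rw [map_zero]
  refine mem_nonZeroDivisors_iff_right.1 (GrothLib.BlowUp.algebraMap_mem_nonZeroDivisors (I := I) a) _ ?_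
  rw [← e.commutes, ← map_mul, hz, map_zero]

theorem blowUp_map_eq_span {I : Ideal R} {a : R} (ha : a ∈ I) {R₁ : Type u} [CommRing R₁] [Algebra R R₁]
    (e : R₁ ≃ₐ[R] ↥(BlowUp.affineAlgebra R I a)) :
    I.map (algebraMap R R₁) = Ideal.span {algebraMap R R₁ a} := by
  have he : algebraMap R R₁ =
      (e.symm.toAlgHom.toRingHom).comp (algebraMap R ↥(BlowUp.affineAlgebra R I a)) :=
    (e.symm.toAlgHom.comp_algebraMap).symm
  rw [he, ← Ideal.map_map, GrothLib.BlowUp.map_eq_span a ha, Ideal.map_span, Set.image_singleton, RingHom.comp_apply]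

/-- The Fitting ideal of a strict transform is the unit ideal when `g · Fit_k` generates the exceptional ideal. -/
theorem ideal_transform_eq_top {M : Type u} [AddCommGroup M] [Module R M] [Module.Finite R M] (k : ℕ)
    (a g : R) (ha : a ∈ nonZeroDivisors R) (h : Ideal.span {g} * Fitt.ideal R M k = Ideal.span {a}) :
    Fitt.ideal R (M ⧸ FlatCA.powTorsion R a M) k = ⊤ := by
  refine ideal_eq_top_of_span_eq k (FlatCA.powTorsion R a M).mkQ (Submodule.mkQ_surjective _) a g ha
    (fun m hm => (Submodule.Quotient.mk_eq_zero _).2 ((mem_powTorsion_iff a m).2 ⟨1, by rwa [pow_one]⟩)) (fun d hd => ?_) ?_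
  · rw [← Ideal.mem_span_singleton, ← h]
    exact Ideal.mul_mem_mul (Ideal.subset_span rfl) hd
  · obtain ⟨d, hd, hgd⟩ := Ideal.mem_span_singleton_mul.1 (h.symm ▸ Ideal.subset_span rfl :
      a ∈ Ideal.span {g} * Fitt.ideal R M k)
    exact ⟨d, hd, hgd⟩

theorem ideal_quotient_eq_bot {M : Type u} [AddCommGroup M] [Module R M] [Module.Finite R M] (k : ℕ)
    (a : R) (ha : a ∈ nonZeroDivisors R) (h : Fitt.ideal R M k = ⊥) (T : Submodule R M)
    (hT : T ≤ FlatCA.powTorsion R a M) : Fitt.ideal R (M ⧸ T) k = ⊥ := by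
  let S := Submonoid.powers a
  have hbij : Function.Bijective
      (IsLocalizedModule.map S (LocalizedModule.mkLinearMap S M) (LocalizedModule.mkLinearMap S (M ⧸ T)) T.mkQ) := by
    refine ⟨?_, IsLocalizedModule.map_surjective _ _ _ _ T.mkQ_surjective⟩
    rw [injective_iff_map_eq_zero]
    intro z hz
    obtain ⟨⟨m, s⟩, rfl⟩ := IsLocalizedModule.mk'_surjective S (LocalizedModule.mkLinearMap S M) z
    rw [Function.uncurry_apply_pair, IsLocalizedModule.map_mk', IsLocalizedModule.mk'_eq_zero,
      IsLocalizedModule.eq_zero_iff S] at hz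
    obtain ⟨⟨_, j, rfl⟩, hj⟩ := hz
    rw [Function.uncurry_apply_pair, IsLocalizedModule.mk'_eq_zero, IsLocalizedModule.eq_zero_iff S]
    rw [Submonoid.smul_def, ← map_smul, Submodule.mkQ_apply, Submodule.Quotient.mk_eq_zero] at hj
    replace hj := (mem_powTorsion_iff a _).1 (hT hj)
    obtain ⟨n, hn⟩ := hj
    exact ⟨⟨a ^ n * a ^ j, ⟨n + j, pow_add a n j⟩⟩, by rw [Submonoid.smul_def, mul_smul]; exact hn⟩
  let E : LocalizedModule S M ≃ₗ[Localization S] LocalizedModule S (M ⧸ T) :=
    LinearEquiv.ofBijective (LinearMap.extendScalarsOfIsLocalization S (Localization S)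
      (IsLocalizedModule.map S (LocalizedModule.mkLinearMap S M) (LocalizedModule.mkLinearMap S (M ⧸ T)) T.mkQ)) hbij
  have hzero : (Fitt.ideal R (M ⧸ T) k).map (algebraMap R (Localization S)) = ⊥ := by
    rw [← ideal_localized, ← ideal_congr E, ideal_localized, h, Ideal.map_bot]
  rw [Submodule.eq_bot_iff]
  intro d hd
  have := Ideal.mem_map_of_mem (algebraMap R (Localization S)) hd
  rw [hzero, Ideal.mem_bot] at this
  exact IsLocalization.injective (Localization S) (Submonoid.powers_le.2 ha) (by rw [this, map_zero])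

theorem ideal_transform_eq_bot {M : Type u} [AddCommGroup M] [Module R M] [Module.Finite R M] (k : ℕ)
    (a : R) (ha : a ∈ nonZeroDivisors R) (h : Fitt.ideal R M k = ⊥) :
    Fitt.ideal R (M ⧸ FlatCA.powTorsion R a M) k = ⊥ :=
  ideal_quotient_eq_bot k a ha h _ le_rfl

/-- If `M` is free of rank `k` off `V(a)`, the lower Fitting ideals die where `a` becomes regular. -/
theorem map_ideal_eq_bot_of_free {M : Type u} [AddCommGroup M] [Module R M] [Module.Finite R M] (k j : ℕ) (hj : j < k)
    (a : R) (hfree : ∀ (p : Ideal R) [p.IsPrime], a ∉ p → Module.Free (Localization.AtPrime p) (LocalizedModule p.primeCompl M) ∧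
      Module.finrank (Localization.AtPrime p) (LocalizedModule p.primeCompl M) = k)
    (R₁ : Type u) [CommRing R₁] [Algebra R R₁] (ha : algebraMap R R₁ a ∈ nonZeroDivisors R₁) :
    (Fitt.ideal R M j).map (algebraMap R R₁) = ⊥ := by
  refine eq_bot_iff.2 (Ideal.map_le_iff_le_comap.2 fun d hd => ?_)
  rw [Ideal.mem_comap, Ideal.mem_bot]
  have hrad : a ∈ ((⊥ : Ideal R).colon {d}).radical := by
    rw [Ideal.radical_eq_sInf, Ideal.mem_sInf]
    rintro p ⟨hle, hp⟩
    by_contra hap
    obtain ⟨hf, hr⟩ := hfree p hap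
    have h0 : (Fitt.ideal R M j).map (algebraMap R (Localization.AtPrime p)) = ⊥ := by
      rw [← ideal_localized, ideal_of_basis ((Module.finBasis _ _).reindex (finCongr hr)), if_neg (by omega)]
    have := Ideal.mem_map_of_mem (algebraMap R (Localization.AtPrime p)) hd
    rw [h0, Ideal.mem_bot, IsLocalization.map_eq_zero_iff p.primeCompl] at this
    obtain ⟨s, hs⟩ := this
    exact s.2 (hle (Submodule.mem_colon_singleton.2 (by simpa using hs)))
  obtain ⟨n, hn⟩ := hrad
  rw [Submodule.mem_colon_singleton, Submodule.mem_bot, smul_eq_mul] at hn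
  have h1 : algebraMap R R₁ a ^ n * algebraMap R R₁ d = 0 := by rw [← map_pow, ← map_mul, hn, map_zero]
  exact (mem_nonZeroDivisors_iff_left.1 (pow_mem ha n)) _ h1

end GrothLib.Fitting
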