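import Groth.Agent.Lib.Fitting.Basic
import Mathlib.LinearAlgebra.TensorProduct.RightExactness
import Mathlib.LinearAlgebra.TensorProduct.Pi
import Mathlib.RingTheory.IsTensorProduct
import Mathlib.RingTheory.TensorProduct.Finite

/-!
Fitting ideals commute with base change.
-/

set_option autoImplicit false
open TensorProduct

namespace GrothLib.Fitting

universe u u' v v'

variable {R : Type u} [CommRing R] {M : Type v} [AddCommGroup M] [Module R M]

theorem span_tmul_eq_top {R' : Type u'} [CommRing R'] [Algebra R R'] {n : ℕ} (x : Fin n → M)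
    (hx : Submodule.span R (Set.range x) = ⊤) :
    Submodule.span R' (Set.range fun i => (1 : R') ⊗ₜ[R] x i) = ⊤ := by
  refine Submodule.eq_top_iff'.2 fun t => ?_
  induction t using TensorProduct.induction_on with
  | zero => exact zero_mem _
  | add a b ha hb => exact add_mem ha hb
  | tmul r y =>
  rw [show r ⊗ₜ[R] y = r • ((1 : R') ⊗ₜ[R] y) by simp [TensorProduct.smul_tmul']]
  refine Submodule.smul_mem _ r ?_
  have hy : y ∈ Submodule.span R (Set.range x) := hx ▸ trivial
  induction hy using Submodule.span_induction with
  | mem y hy => obtain ⟨i, rfl⟩ := hy; exact Submodule.subset_span ⟨i, rfl⟩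
  | zero => rw [TensorProduct.tmul_zero]; exact zero_mem _
  | add a b _ _ ha hb => rw [TensorProduct.tmul_add]; exact add_mem ha hb
  | smul c a _ ha => rw [TensorProduct.tmul_smul, ← algebraMap_smul R']; exact Submodule.smul_mem _ _ ha

theorem rel_baseChange_eq {R' : Type u'} [CommRing R'] [Algebra R R'] {n : ℕ} (x : Fin n → M)
    (hx : Submodule.span R (Set.range x) = ⊤) :
    rel (R := R') (fun i => (1 : R') ⊗ₜ[R] x i) =
      Submodule.span R' ((fun z : Fin n → R => algebraMap R R' ∘ z) '' (rel (R := R) x : Set (Fin n → R))) := by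
  classical
  refine le_antisymm (fun z hz => ?_) (Submodule.span_le.2 ?_)
  · let g := Fintype.linearCombination R x
    have hex : Function.Exact (LinearMap.lTensor R' (rel (R := R) x).subtype) (LinearMap.lTensor R' g) :=
      lTensor_exact R' (LinearMap.exact_subtype_ker_map g) fun y =>
        LinearMap.range_eq_top.1 (by rw [Fintype.range_linearCombination, hx]) y
    let t : R' ⊗[R] (Fin n → R) := ∑ j, z j ⊗ₜ[R] (Pi.single j 1 : Fin n → R)
    have ht : LinearMap.lTensor R' g t = 0 := by
      simp only [t, map_sum, LinearMap.lTensor_tmul, g, Fintype.linearCombination_apply_single, one_smul]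
      refine Eq.trans (Finset.sum_congr rfl fun j _ => ?_) (mem_rel.1 hz)
      simp [TensorProduct.smul_tmul']
    obtain ⟨u, hu⟩ := (hex t).1 ht
    have hP : TensorProduct.piScalarRightHom R R' R' (Fin n) t = z := by
      ext i
      simp [t, map_sum, TensorProduct.piScalarRightHom_tmul, Finset.sum_apply, Pi.single_apply, Finset.sum_ite_eq]
    rw [← hP, ← hu]
    clear hu
    induction u using TensorProduct.induction_on with
    | zero => rw [map_zero, map_zero]; exact zero_mem _
    | tmul r w =>
      rw [LinearMap.lTensor_tmul, TensorProduct.piScalarRightHom_tmul]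
      convert Submodule.smul_mem _ r (Submodule.subset_span (R := R') (Set.mem_image_of_mem
        (fun z : Fin n → R => algebraMap R R' ∘ z) w.2)) using 1
      ext j
      simp [Algebra.smul_def, mul_comm]
    | add a b ha hb => rw [map_add, map_add]; exact add_mem ha hb
  · rintro _ ⟨w, hw, rfl⟩
    rw [SetLike.mem_coe, mem_rel]
    simp only [Function.comp_apply, algebraMap_smul, ← TensorProduct.tmul_smul, ← TensorProduct.tmul_sum,
      mem_rel.1 hw, TensorProduct.tmul_zero]

theorem ideal_baseChange (R' : Type u') [CommRing R'] [Algebra R R'] [Module.Finite R M] (k : ℕ) :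
    Fitt.ideal R' (R' ⊗[R] M) k = (Fitt.ideal R M k).map (algebraMap R R') := by
  classical
  obtain ⟨n, x, hx⟩ := exists_tuple R M
  rw [ideal_eq_minors _ (span_tmul_eq_top x hx), ideal_eq_minors x hx, rel_baseChange_eq x hx]
  have key : ∀ (w : Fin (n - k) → Fin n → R) (e : Fin (n - k) → Fin n),
      (Matrix.of fun a b => (algebraMap R R' ∘ w b) (e a)).det =
        algebraMap R R' (Matrix.of fun a b => w b (e a)).det := fun w e => by
    rw [RingHom.map_det]
    rfl
  refine le_antisymm (minors_span_le _ _ _ fun z e hz => ?_) (Ideal.map_le_iff_le_comap.2 ?_)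
  · choose w hw hwz using hz
    rw [show z = fun b => algebraMap R R' ∘ w b from funext fun b => (hwz b).symm]
    exact key w e ▸ Ideal.mem_map_of_mem _ (det_mem_minors w e hw)
  · refine minors_le_iff.2 fun w e hw => ?_
    rw [Ideal.mem_comap, ← key]
    exact det_mem_minors _ e fun b => Submodule.subset_span ⟨w b, hw b, rfl⟩

theorem ideal_of_isBaseChange (R' : Type u') [CommRing R'] [Algebra R R'] [Module.Finite R M] {M' : Type v'}
    [AddCommGroup M'] [Module R M'] [Module R' M'] [IsScalarTower R R' M'] {g : M →ₗ[R] M'}
    (hg : IsBaseChange R' g) (k : ℕ) : Fitt.ideal R' M' k = (Fitt.ideal R M k).map (algebraMap R R') := by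
  rw [← ideal_baseChange R' k, ideal_congr hg.equiv k]

end GrothLib.Fitting
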