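import Groth.Agent.Lib.Fitting.Minors
import Groth.Prelude.Def_Fitting
import Mathlib.RingTheory.Finiteness.Basic

/-!
`Fitt.ideal` is the ideal of minors of the relation module of any generating tuple; first consequences.
-/

set_option autoImplicit false

namespace GrothLib.Fitting

open Function

universe u v v'

variable {R : Type u} [CommRing R] {M : Type v} [AddCommGroup M] [Module R M]

/-- The module of linear relations of a tuple. -/
def rel {n : ℕ} (x : Fin n → M) : Submodule R (Fin n → R) := LinearMap.ker (Fintype.linearCombination R x)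

theorem mem_rel {n : ℕ} {x : Fin n → M} {z : Fin n → R} : z ∈ rel x ↔ ∑ i, z i • x i = 0 := by
  rw [rel, LinearMap.mem_ker, Fintype.linearCombination_apply]

theorem minors_rel_snoc {n : ℕ} (x : Fin n → M) (y : M) (hy : y ∈ Submodule.span R (Set.range x)) (k : ℕ) :
    minors (rel (R := R) (Fin.snoc (α := fun _ => M) x y)) (n + 1 - k) = minors (rel (R := R) x) (n - k) := by
  obtain ⟨c, hc⟩ := Submodule.mem_span_range_iff_exists_fun R |>.1 hy
  rcases lt_or_ge n k with hk | hk
  · rw [show n + 1 - k = 0 by omega, show n - k = 0 by omega, minors_zero, minors_zero]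
  rw [show n + 1 - k = n - k + 1 by omega]
  let φ : (Fin n → R) →ₗ[R] (Fin (n + 1) → R) :=
    { toFun := fun z => Fin.snoc z 0
      map_add' := fun a b => by
        ext i; induction i using Fin.lastCases <;> simp
      map_smul' := fun a b => by
        ext i; induction i using Fin.lastCases <;> simp }
  have hφ : ∀ z ∈ rel (R := R) x, φ z ∈ rel (R := R) (Fin.snoc (α := fun _ => M) x y) := fun z hz => by
    rw [mem_rel, Fin.sum_univ_castSucc]
    simpa [φ] using mem_rel.1 hz
  have hv : Fin.snoc (α := fun _ => R) c (-1) ∈ rel (R := R) (Fin.snoc (α := fun _ => M) x y) := by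
    rw [mem_rel, Fin.sum_univ_castSucc]
    simp [hc]
  refine le_antisymm ?_ (le_minors_snoc _ _ c hφ hv _)
  refine le_trans (minors_mono (fun z hz => ?_) _)
    ((minors_sup_span_le ((rel (R := R) x).map φ) (Fin.snoc c (-1)) _).trans (minors_map_le φ _ _))
  refine Submodule.mem_sup.2 ⟨φ (fun i => z i.castSucc + z (Fin.last n) * c i), Submodule.mem_map_of_mem ?_,
    (-z (Fin.last n)) • Fin.snoc (α := fun _ => R) c (-1), Submodule.smul_mem _ _ (Submodule.subset_span rfl), ?_⟩
  · have h := mem_rel.1 hz
    rw [Fin.sum_univ_castSucc] at h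
    simp only [Fin.snoc_castSucc, Fin.snoc_last] at h
    rw [mem_rel]
    simp only [add_smul, mul_smul, Finset.sum_add_distrib, ← Finset.smul_sum, hc]
    exact h
  · ext i
    induction i using Fin.lastCases <;> simp [φ]

theorem minors_rel_comp {n n' : ℕ} (σ : Fin n ≃ Fin n') (x : Fin n' → M) (m : ℕ) :
    minors (rel (R := R) (x ∘ σ)) m = minors (rel (R := R) x) m := by
  rw [← minors_map_equiv (LinearEquiv.funCongrLeft R R σ) (rel (R := R) x)]
  congr 1
  ext z
  constructor
  · intro hz
    refine ⟨z ∘ σ.symm, mem_rel.2 ?_, ?_⟩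
    · rw [← σ.sum_comp]
      simpa using mem_rel.1 hz
    · ext i; simp [LinearEquiv.funCongrLeft_apply, LinearMap.funLeft_apply]
  · rintro ⟨w, hw, rfl⟩
    have := σ.sum_comp (fun i => w i • x i)
    rw [mem_rel]
    simpa [LinearEquiv.funCongrLeft_apply, LinearMap.funLeft_apply, mem_rel.1 hw] using this

theorem minors_rel_append {n : ℕ} (x : Fin n → M) (hx : Submodule.span R (Set.range x) = ⊤) (k : ℕ) :
    ∀ (p : ℕ) (y : Fin p → M),
      minors (rel (R := R) (Fin.append x y)) (n + p - k) = minors (rel (R := R) x) (n - k) := by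
  intro p
  induction p with
  | zero =>
    intro y
    rw [Fin.append_right_nil x y rfl]
    exact congrFun (congrArg _ rfl) _
  | succ p ih =>
    intro y
    rw [← Fin.snoc_init_self y, Fin.append_snoc]
    refine (minors_rel_snoc (Fin.append x (Fin.init y)) (y (Fin.last p)) ?_ k).trans (ih _)
    refine (hx ▸ Submodule.span_mono ?_ : (⊤ : Submodule R M) ≤ _) trivial
    rintro _ ⟨i, rfl⟩
    exact ⟨Fin.castAdd p i, Fin.append_left _ _ i⟩

theorem minors_rel_eq {n n' : ℕ} (x : Fin n → M) (hx : Submodule.span R (Set.range x) = ⊤)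
    (y : Fin n' → M) (hy : Submodule.span R (Set.range y) = ⊤) (k : ℕ) :
    minors (rel (R := R) x) (n - k) = minors (rel (R := R) y) (n' - k) := by
  rw [← minors_rel_append x hx k n' y, ← minors_rel_append y hy k n x, ← minors_rel_comp finAddFlip,
    show n' + n - k = n + n' - k by omega]
  congr 2
  ext i
  induction i using Fin.addCases <;> simp

/-- The Fitting ideal is computed by any generating tuple. -/
theorem ideal_eq_minors {n : ℕ} (x : Fin n → M) (hx : Submodule.span R (Set.range x) = ⊤) (k : ℕ) :
    Fitt.ideal R M k = minors (rel (R := R) x) (n - k) := by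
  classical
  refine le_antisymm (Ideal.span_le.2 ?_) (minors_le_iff.2 fun z e hz => ?_)
  · rintro _ ⟨n', y, a, hy, ha, rfl⟩
    rw [SetLike.mem_coe, minors_rel_eq x hx y hy]
    exact apply_mem_minors_of_card Matrix.detRowAlternating a
      (Finset.univ.filter fun i : Fin n' => (i : ℕ) < n' - k)
      (fun j hj => mem_rel.2 (ha j (Finset.mem_filter.1 hj).2)) (by rw [Fin.card_filter_val_lt]; omega)
  · by_cases he : Injective e
    swap
    · obtain ⟨i, j, hij, hne⟩ := Function.not_injective_iff.1 he
      rw [Matrix.det_zero_of_row_eq hne (by ext b; simp [hij])]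
      exact zero_mem _
    have hm : n - k ≤ n := Nat.sub_le n k
    obtain ⟨π, hπ⟩ := Equiv.Perm.exists_extending_pair (Fin.castLE hm) e (Fin.castLE_injective hm) he
    let a : Matrix (Fin n) (Fin n) R := fun i j =>
      if h : (i : ℕ) < n - k then z ⟨i, h⟩ (π j) else if i = j then 1 else 0
    have ha : ∀ i : Fin n, (i : ℕ) < n - k → ∑ j, a i j • (x ∘ π) j = 0 := fun i hi => by
      simp only [a, dif_pos hi, Function.comp_apply]
      rw [Equiv.sum_comp π (fun j => z ⟨i, hi⟩ j • x j)]
      exact mem_rel.1 (hz _)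
    have hdet : a.det = (Matrix.of fun p b => z b (e p)).det := by
      rw [Matrix.twoBlockTriangular_det a (fun i => (i : ℕ) < n - k) (fun i hi j hj => by
        simp only [a, dif_neg hi]
        rw [if_neg]
        rintro rfl
        exact hi hj)]
      rw [show Matrix.toSquareBlockProp a (fun i => ¬((i : ℕ) < n - k)) = 1 from Matrix.ext fun i j => by
        simp [Matrix.toSquareBlockProp, a, i.2, Matrix.one_apply, Subtype.ext_iff], Matrix.det_one, mul_one,
        ← Matrix.det_transpose, ← Matrix.det_reindex_self (Fin.castLEquiv hm).symm]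
      congr 1
      ext p b
      simp [Matrix.toSquareBlockProp, a, ← hπ, Fin.castLE]
    exact Ideal.subset_span ⟨n, x ∘ π, a,
      by rw [Set.range_comp, π.surjective.range_eq, Set.image_univ, hx], ha, hdet.symm⟩

theorem exists_tuple (R : Type u) (M : Type v) [CommRing R] [AddCommGroup M] [Module R M] [Module.Finite R M] :
    ∃ (n : ℕ) (x : Fin n → M), Submodule.span R (Set.range x) = ⊤ :=
  Module.Finite.exists_fin

theorem ideal_eq_top_of_le {n : ℕ} (x : Fin n → M) (hx : Submodule.span R (Set.range x) = ⊤) {k : ℕ} (hk : n ≤ k) :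
    Fitt.ideal R M k = ⊤ := by
  rw [ideal_eq_minors x hx, Nat.sub_eq_zero_of_le hk, minors_zero]

theorem ideal_le_of_surjective [Module.Finite R M] {M' : Type v'} [AddCommGroup M'] [Module R M'] (f : M →ₗ[R] M')
    (hf : Surjective f) (k : ℕ) : Fitt.ideal R M k ≤ Fitt.ideal R M' k := by
  obtain ⟨n, x, hx⟩ := exists_tuple R M
  rw [ideal_eq_minors x hx, ideal_eq_minors (f ∘ x) (by
    rw [Set.range_comp, ← Submodule.map_span, hx, Submodule.map_top, LinearMap.range_eq_top.2 hf])]
  refine minors_mono (fun z hz => mem_rel.2 ?_) _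
  simpa [map_sum] using congrArg f (mem_rel.1 hz)

theorem ideal_congr [Module.Finite R M] {M' : Type v'} [AddCommGroup M'] [Module R M'] (e : M ≃ₗ[R] M') (k : ℕ) :
    Fitt.ideal R M k = Fitt.ideal R M' k :=
  have := Module.Finite.equiv e
  le_antisymm (ideal_le_of_surjective e.toLinearMap e.surjective k)
    (ideal_le_of_surjective e.symm.toLinearMap e.symm.surjective k)

theorem ideal_mono [Module.Finite R M] : Monotone (Fitt.ideal R M) := by
  obtain ⟨n, x, hx⟩ := exists_tuple R M
  intro i j hij
  rw [ideal_eq_minors x hx, ideal_eq_minors x hx]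
  exact minors_antitone _ (by omega)

/-- Free modules. -/
theorem ideal_of_basis {n : ℕ} (b : Module.Basis (Fin n) R M) (k : ℕ) :
    Fitt.ideal R M k = if n ≤ k then ⊤ else ⊥ := by
  split_ifs with h
  · exact ideal_eq_top_of_le b b.span_eq h
  · rw [ideal_eq_minors b b.span_eq, show rel (R := R) (b : Fin n → M) = ⊥ from
      (Submodule.eq_bot_iff _).2 fun z hz => funext (Fintype.linearIndependent_iff.1 b.linearIndependent z (mem_rel.1 hz)),
      minors_bot (by omega)]

end GrothLib.Fitting
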