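import Groth.Agent.Lib.Fitting.Transform
import Mathlib.LinearAlgebra.Isomorphisms

/-!
Blowing up makes a module, locally free of rank `r` on `D(f)`, have locally free strict transform.
-/

set_option autoImplicit false
open TensorProduct

namespace GrothLib.Fitting

universe u

variable {R : Type u} [CommRing R]

/-- A finitely presented cover which is an isomorphism where `M` is locally free. -/
theorem exists_finitePresentation_cover (M : Type u) [AddCommGroup M] [Module R M] [Module.Finite R M] (f : R)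
    (G : Set R) (hG : f ∈ (Ideal.span G).radical)
    (hfp : ∀ g ∈ G, Module.Free (Localization.Away g) (LocalizedModule (Submonoid.powers g) M)) :
    ∃ (M₀ : Type u) (_ : AddCommGroup M₀) (_ : Module R M₀) (_ : Module.FinitePresentation R M₀)
      (q : M₀ →ₗ[R] M), Function.Surjective q ∧ ∀ y, q y = 0 → ∃ N : ℕ, f ^ N • y = 0 := by
  classical
  obtain ⟨n, x, hx⟩ := exists_tuple R M
  let φ := Fintype.linearCombination R x
  have hφ : Function.Surjective φ := LinearMap.range_eq_top.1 (by rw [Fintype.range_linearCombination, hx])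
  obtain ⟨m, hm⟩ := hG
  obtain ⟨T, hTG, hTm⟩ := Submodule.mem_span_finite_of_mem_span hm
  have hloc : ∀ g ∈ G, ∃ Lg : Submodule R (Fin n → R), Lg.FG ∧ Lg ≤ LinearMap.ker φ ∧
      ∀ z ∈ LinearMap.ker φ, ∃ N : ℕ, g ^ N • z ∈ Lg := by
    intro g hg
    have := hfp g hg
    let S := Submonoid.powers g
    let f0 := LocalizedModule.mkLinearMap S (Fin n → R)
    let f1 := LocalizedModule.mkLinearMap S M
    have : Module.Finite (Localization.Away g) (LocalizedModule S M) := Module.Finite.of_isLocalizedModule S f1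
    have : Module.FinitePresentation (Localization.Away g) (LocalizedModule S M) :=
      Module.finitePresentation_of_projective _ _
    let φS : LocalizedModule S (Fin n → R) →ₗ[Localization.Away g] LocalizedModule S M :=
      LinearMap.extendScalarsOfIsLocalization S (Localization.Away g) (IsLocalizedModule.map S f0 f1 φ)
    have : Module.Finite (Localization.Away g) (LocalizedModule S (Fin n → R)) :=
      Module.Finite.of_isLocalizedModule S f0
    obtain ⟨s, hs⟩ := Module.FinitePresentation.fg_ker φS (IsLocalizedModule.map_surjective S f0 f1 φ hφ)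
    have hlift : ∀ w ∈ s, ∃ z, φ z = 0 ∧ ∃ t : S, t • w = f0 z := by
      intro w hw
      have hw0 : φS w = 0 := LinearMap.mem_ker.1 (hs ▸ Submodule.subset_span hw)
      obtain ⟨⟨z, t⟩, hzt⟩ := IsLocalizedModule.surj S f0 w
      have h1 : f1 (φ z) = 0 := by
        rw [← IsLocalizedModule.map_apply S f0 f1 φ, ← hzt, Submonoid.smul_def, map_smul,
          show IsLocalizedModule.map S f0 f1 φ w = 0 from hw0, smul_zero]
      obtain ⟨u, hu⟩ := (IsLocalizedModule.eq_zero_iff S f1).1 h1
      refine ⟨u • z, by rw [Submonoid.smul_def, map_smul]; exact hu, u * t, ?_⟩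
      simp only [Submonoid.smul_def, map_smul, Submonoid.coe_mul, mul_smul] at hzt ⊢
      rw [hzt]
    choose z hz0 t ht using hlift
    let W : Set (Fin n → R) := Set.range fun w : s => z w.1 w.2
    refine ⟨Submodule.span R W, Submodule.fg_span (Set.finite_range _), Submodule.span_le.2 ?_, fun v hv => ?_⟩
    · rintro _ ⟨w, rfl⟩
      exact hz0 _ _
    have hv' : f0 v ∈ LinearMap.ker φS := by
      rw [LinearMap.mem_ker]
      show IsLocalizedModule.map S f0 f1 φ (f0 v) = 0
      rw [IsLocalizedModule.map_apply, LinearMap.mem_ker.1 hv, map_zero]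
    have hmem : f0 v ∈ Submodule.localized' (Localization.Away g) S f0 (Submodule.span R W) := by
      rw [← hs] at hv'
      refine Submodule.span_le.2 (fun w hw => ?_) hv'
      exact ⟨z w hw, Submodule.subset_span ⟨⟨w, hw⟩, rfl⟩, t w hw, IsLocalizedModule.mk'_eq_iff.2 (ht w hw).symm⟩
    obtain ⟨y, hy, u, hu⟩ := hmem
    rw [IsLocalizedModule.mk'_eq_iff, Submonoid.smul_def, ← map_smul] at hu
    obtain ⟨⟨_, k, rfl⟩, hw⟩ := (IsLocalizedModule.eq_iff_exists S f0).1 hu
    obtain ⟨k', hk'⟩ := u.2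
    refine ⟨k + k', ?_⟩
    rw [pow_add, mul_smul, show g ^ k' = (u : R) from hk']
    simp only [Submonoid.smul_def] at hw
    rw [← hw]
    exact Submodule.smul_mem _ _ hy
  choose Lg hfg hle hsat using hloc
  let L₀ : Submodule R (Fin n → R) := ⨆ g : T, Lg g.1 (hTG g.2)
  have hL₀ : L₀.FG := Submodule.fg_iSup _ fun g => hfg _ _
  have hL₀le : L₀ ≤ LinearMap.ker φ := iSup_le fun g => hle _ _
  refine ⟨(Fin n → R) ⧸ L₀, inferInstance, inferInstance,
    Module.finitePresentation_of_surjective _ L₀.mkQ_surjective (by rw [L₀.ker_mkQ]; exact hL₀),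
    L₀.liftQ φ hL₀le, fun y => ?_, fun y hy => ?_⟩
  · obtain ⟨z, rfl⟩ := hφ y
    exact ⟨L₀.mkQ z, rfl⟩
  · obtain ⟨z, rfl⟩ := L₀.mkQ_surjective y
    have hz : z ∈ LinearMap.ker φ := hy
    have hrad : Ideal.span (T : Set R) ≤ (L₀.colon {z}).radical := Ideal.span_le.2 fun g hg => by
      obtain ⟨N, hN⟩ := hsat g (hTG hg) z hz
      exact ⟨N, Submodule.mem_colon_singleton.2 (le_iSup (fun g : T => Lg g.1 (hTG g.2)) ⟨g, hg⟩ hN)⟩
    obtain ⟨N, hN⟩ := hrad hTm
    refine ⟨m * N, ?_⟩
    rw [pow_mul, Submodule.mkQ_apply, ← Submodule.Quotient.mk_smul, Submodule.Quotient.mk_eq_zero]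
    exact Submodule.mem_colon_singleton.1 hN

theorem exists_ideal_blowup_locallyFree (M : Type u) [AddCommGroup M] [Module R M] [Module.Finite R M] (f : R) (r : ℕ)
    (hf : ∀ (p : Ideal R) [p.IsPrime], f ∉ p → ∃ g : R, g ∉ p ∧ g ∈ (Ideal.span {f}).radical ∧
      Module.Free (Localization.Away g) (LocalizedModule (Submonoid.powers g) M) ∧
        Module.finrank (Localization.Away g) (LocalizedModule (Submonoid.powers g) M) = r) :
    ∃ I : Ideal R, I.FG ∧ I.radical = (Ideal.span {f}).radical ∧ ∀ a ∈ I, ∀ (R₁ : Type u) [CommRing R₁] [Algebra R R₁]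
      (_ : R₁ ≃ₐ[R] ↥(BlowUp.affineAlgebra R I a)), ∀ (p' : Ideal R₁) [p'.IsPrime], ∃ g : R₁, g ∉ p' ∧
        Module.Free (Localization.Away g) (LocalizedModule (Submonoid.powers g) ((R₁ ⊗[R] M) ⧸ FlatCA.powTorsion R₁ (algebraMap R R₁ a) (R₁ ⊗[R] M))) ∧
        Module.finrank (Localization.Away g) (LocalizedModule (Submonoid.powers g) ((R₁ ⊗[R] M) ⧸ FlatCA.powTorsion R₁ (algebraMap R R₁ a) (R₁ ⊗[R] M))) = r := by
  classical
  let G : Set R := {g | g ∈ (Ideal.span {f}).radical ∧
    Module.Free (Localization.Away g) (LocalizedModule (Submonoid.powers g) M) ∧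
    Module.finrank (Localization.Away g) (LocalizedModule (Submonoid.powers g) M) = r}
  have hG : f ∈ (Ideal.span G).radical := by
    rw [Ideal.radical_eq_sInf, Ideal.mem_sInf]
    rintro p ⟨hle, hp⟩
    by_contra hfp
    obtain ⟨g, hg, h1, h2, h3⟩ := hf p hfp
    exact hg (hle (Ideal.subset_span ⟨h1, h2, h3⟩))
  obtain ⟨M₀, _, _, _, q, hq, hker⟩ := exists_finitePresentation_cover M f G hG fun g hg => hg.2.1
  have hfr : ∀ (p : Ideal R) [p.IsPrime], f ∉ p → ∀ j, ∃ g : R, g ∉ p ∧
      (Fitt.ideal R M j).map (algebraMap R (Localization.Away g)) = if r ≤ j then ⊤ else ⊥ := by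
    intro p _ hfp j
    obtain ⟨g, hg, -, hfree, hrank⟩ := hf p hfp
    have : Nontrivial (Localization.Away g) := by
      rw [← not_subsingleton_iff_nontrivial, IsLocalization.subsingleton_iff (M := Submonoid.powers g)]
      rintro ⟨i, hi⟩
      have h0 : g ^ i = 0 := hi
      exact hg (‹p.IsPrime›.mem_of_pow_mem i (h0 ▸ p.zero_mem))
    exact ⟨g, hg, by rw [← ideal_localized, ideal_of_basis ((Module.finBasis _ _).reindex (finCongr hrank))]⟩
  -- lower Fitting ideals die with `f`
  have hlow : ∀ j, j < r → ∀ d ∈ Fitt.ideal R M₀ j, ∃ N : ℕ, f ^ N * d = 0 := by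
    intro j hj d hd
    have hd' := ideal_le_of_surjective q hq j hd
    have hrad : f ∈ ((⊥ : Ideal R).colon {d}).radical := by
      rw [Ideal.radical_eq_sInf, Ideal.mem_sInf]
      rintro p ⟨hle, hp⟩
      by_contra hfp
      obtain ⟨g, hg, hmap⟩ := hfr p hfp j
      rw [if_neg (by omega)] at hmap
      have := Ideal.mem_map_of_mem (algebraMap R (Localization.Away g)) hd'
      rw [hmap, Ideal.mem_bot, IsLocalization.map_eq_zero_iff (Submonoid.powers g)] at this
      obtain ⟨⟨_, i, rfl⟩, hi⟩ := this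
      exact hg (hp.mem_of_pow_mem i (hle (Submodule.mem_colon_singleton.2 (by simpa using hi))))
    obtain ⟨N, hN⟩ := hrad
    exact ⟨N, by simpa [Submodule.mem_colon_singleton] using hN⟩
  have htop : f ∈ (Fitt.ideal R M₀ r).radical := by
    rw [Ideal.radical_eq_sInf, Ideal.mem_sInf]
    rintro p ⟨hle, hp⟩
    by_contra hfp
    have hnot : ¬ Fitt.ideal R M r ≤ p := fun hMle => by
      obtain ⟨g, hg, hmap⟩ := hfr p hfp r
      rw [if_pos le_rfl, map_eq_top_iff (Submonoid.powers g)] at hmap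
      obtain ⟨y, ⟨i, rfl⟩, hy⟩ := Set.not_disjoint_iff.1 hmap
      exact hg (hp.mem_of_pow_mem i (hMle hy))
    obtain ⟨g, hgp, y, hy⟩ := exists_smul_mem_span r p ((not_le_iff_finrank_fiber_le r p).1 hnot)
    choose y₀ hy₀ using fun i => hq (y i)
    refine absurd hle ((not_le_iff_exists_span_atPrime r p).2 ⟨fun i => LocalizedModule.mkLinearMap p.primeCompl M₀ (y₀ i), ?_⟩)
    refine Submodule.eq_top_iff'.2 fun w => ?_
    induction w using LocalizedModule.induction_on with | _ m s
    have hm : q (g • m) ∈ Submodule.span R (Set.range y) := by rw [map_smul]; exact hy _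
    rw [show Set.range y = q '' Set.range y₀ by rw [← Set.range_comp]; exact congrArg Set.range (funext fun i => (hy₀ i).symm),
      ← Submodule.map_span] at hm
    obtain ⟨v, hv, hqv⟩ := hm
    obtain ⟨N, hN⟩ := hker (g • m - v) (by rw [map_sub, hqv, sub_self])
    have hsg : f ^ N * g ∈ p.primeCompl := mul_mem (pow_mem hfp N) hgp
    have hmem : LocalizedModule.mkLinearMap p.primeCompl M₀ ((f ^ N * g) • m) ∈
        Submodule.span (Localization.AtPrime p) (Set.range fun i => LocalizedModule.mkLinearMap p.primeCompl M₀ (y₀ i)) := by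
      refine Submodule.span_le_restrictScalars R (Localization.AtPrime p) _ ?_
      rw [show (Set.range fun i => LocalizedModule.mkLinearMap p.primeCompl M₀ (y₀ i)) =
        LocalizedModule.mkLinearMap p.primeCompl M₀ '' Set.range y₀ from Set.range_comp _ y₀, ← Submodule.map_span]
      refine Submodule.mem_map_of_mem ?_
      rw [mul_smul, ← sub_add_cancel (g • m) v, smul_add, hN, zero_add]
      exact Submodule.smul_mem _ _ hv
    have heq : LocalizedModule.mk m s =
        (Localization.mk 1 (s * ⟨_, hsg⟩ : p.primeCompl)) • LocalizedModule.mkLinearMap p.primeCompl M₀ ((f ^ N * g) • m) := by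
      rw [LocalizedModule.mkLinearMap_apply, LocalizedModule.mk_smul_mk, one_smul, mul_one, LocalizedModule.mk_eq]
      exact ⟨1, by simp [Submonoid.smul_def, mul_smul]⟩
    exact heq ▸ Submodule.smul_mem _ _ hmem
  refine ⟨Ideal.span {f} * Fitt.ideal R M₀ r, (Submodule.fg_span (Set.finite_singleton f)).mul (ideal_fg r), ?_, ?_⟩
  · rw [Ideal.radical_mul, inf_eq_left]
    exact Ideal.radical_le_radical_iff.2 ((Ideal.span_singleton_le_iff_mem _).2 htop)
  intro a ha R₁ _ _ e p' _
  have ha₁ := blowUp_algebraMap_mem_nonZeroDivisors e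
  have hmap := blowUp_map_eq_span ha e
  rw [Ideal.map_mul, Ideal.map_span, Set.image_singleton, ← ideal_baseChange (M := M₀) R₁ r] at hmap
  obtain ⟨c, -, hc⟩ := Ideal.mem_span_singleton_mul.1 (hmap.symm ▸ Ideal.subset_span rfl :
    algebraMap R R₁ a ∈ Ideal.span {algebraMap R R₁ f} * Fitt.ideal R₁ (R₁ ⊗[R] M₀) r)
  have hN₀top := ideal_transform_eq_top r (algebraMap R R₁ a) (algebraMap R R₁ f) ha₁ hmap
  have hN₀low : ∀ j, j < r → Fitt.ideal R₁ ((R₁ ⊗[R] M₀) ⧸ FlatCA.powTorsion R₁ (algebraMap R R₁ a) (R₁ ⊗[R] M₀)) j = ⊥ := by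
    intro j hj
    refine ideal_transform_eq_bot j _ ha₁ ?_
    rw [ideal_baseChange, eq_bot_iff, Ideal.map_le_iff_le_comap]
    intro d hd
    obtain ⟨N, hN⟩ := hlow j hj d hd
    rw [Ideal.mem_comap, Ideal.mem_bot]
    refine (mem_nonZeroDivisors_iff_left.1 (pow_mem ha₁ N)) _ ?_
    rw [← hc, mul_pow, mul_right_comm, ← map_pow, ← map_mul, hN, map_zero, zero_mul]
  let q₁ : R₁ ⊗[R] M₀ →ₗ[R₁] R₁ ⊗[R] M := q.baseChange R₁
  have hq₁ : Function.Surjective q₁ := LinearMap.lTensor_surjective R₁ hq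
  have hker₁ : ∀ y, q₁ y = 0 → y ∈ FlatCA.powTorsion R₁ (algebraMap R R₁ a) (R₁ ⊗[R] M₀) := by
    intro y hy
    obtain ⟨u, rfl⟩ := ((lTensor_exact R₁ (LinearMap.exact_subtype_ker_map q) hq) y).1 hy
    clear hy
    induction u using TensorProduct.induction_on with
    | zero => rw [map_zero]; exact zero_mem _
    | add v w hv hw => rw [map_add]; exact add_mem hv hw
    | tmul t w =>
      obtain ⟨N, hN⟩ := hker w.1 w.2
      refine (mem_powTorsion_iff _ _).2 ⟨N, ?_⟩
      rw [← hc, mul_pow, mul_comm, mul_smul, LinearMap.lTensor_tmul, ← map_pow, algebraMap_smul,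
        ← TensorProduct.tmul_smul, Submodule.subtype_apply, hN, TensorProduct.tmul_zero, smul_zero]
  let T := FlatCA.powTorsion R₁ (algebraMap R R₁ a) (R₁ ⊗[R] M)
  have hkereq : LinearMap.ker (T.mkQ ∘ₗ q₁) = FlatCA.powTorsion R₁ (algebraMap R R₁ a) (R₁ ⊗[R] M₀) := by
    ext y
    rw [LinearMap.mem_ker, LinearMap.comp_apply, Submodule.mkQ_apply, Submodule.Quotient.mk_eq_zero]
    constructor
    · intro h
      obtain ⟨i, hi⟩ := (mem_powTorsion_iff _ _).1 h
      obtain ⟨j, hj⟩ := (mem_powTorsion_iff _ _).1 (hker₁ _ (by rw [map_smul]; exact hi))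
      exact (mem_powTorsion_iff _ _).2 ⟨j + i, by rw [pow_add, mul_smul]; exact hj⟩
    · intro h
      obtain ⟨i, hi⟩ := (mem_powTorsion_iff _ _).1 h
      exact (mem_powTorsion_iff _ _).2 ⟨i, by rw [← map_smul, hi, map_zero]⟩
  let E := (Submodule.quotEquivOfEq _ _ hkereq.symm).trans
    (LinearMap.quotKerEquivOfSurjective (T.mkQ ∘ₗ q₁) (T.mkQ_surjective.comp hq₁))
  exact free_near_of_ideal_eq r (fun j hj => by rw [← ideal_congr E]; exact hN₀low j hj)
    (by rw [← ideal_congr E]; exact hN₀top) p'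

end GrothLib.Fitting
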