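import Mathlib.LinearAlgebra.ExteriorPower.Basis
import Mathlib.LinearAlgebra.Matrix.Block
import Mathlib.LinearAlgebra.Matrix.ToLin
import Mathlib.LinearAlgebra.Alternating.Uncurry.Fin
import Mathlib.RingTheory.Ideal.Operations

/-!
The ideal of `m × m` minors of a submodule of `Fin n → R`.
-/

set_option autoImplicit false

namespace GrothLib.Fitting

open Function

variable {R : Type*} [CommRing R] {n n' : ℕ}

/-- The ideal generated by the `m × m` minors whose rows come from `L`. -/
def minors (L : Submodule R (Fin n → R)) (m : ℕ) : Ideal R :=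
  Ideal.span {d | ∃ (z : Fin m → Fin n → R) (e : Fin m → Fin n),
    (∀ j, z j ∈ L) ∧ d = (Matrix.of fun a b => z b (e a)).det}

theorem det_mem_minors {L : Submodule R (Fin n → R)} {m : ℕ} (z : Fin m → Fin n → R) (e : Fin m → Fin n)
    (hz : ∀ j, z j ∈ L) : (Matrix.of fun a b => z b (e a)).det ∈ minors L m :=
  Ideal.subset_span ⟨z, e, hz, rfl⟩

theorem minors_le_iff {L : Submodule R (Fin n → R)} {m : ℕ} {I : Ideal R} :
    minors L m ≤ I ↔ ∀ (z : Fin m → Fin n → R) (e : Fin m → Fin n), (∀ j, z j ∈ L) →
      (Matrix.of fun a b => z b (e a)).det ∈ I :=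
  ⟨fun h z e hz => h (det_mem_minors z e hz),
    fun h => Ideal.span_le.2 fun _ ⟨z, e, hz, hd⟩ => hd ▸ h z e hz⟩

/-- The alternating form `z ↦ det (z_b (e a))`. -/
noncomputable def minorForm (R : Type*) [CommRing R] {n m : ℕ} (e : Fin m → Fin n) :
    (Fin n → R) [⋀^Fin m]→ₗ[R] R :=
  Matrix.detRowAlternating.compLinearMap (LinearMap.funLeft R R e)

theorem minorForm_apply {m : ℕ} (e : Fin m → Fin n) (z : Fin m → Fin n → R) :
    minorForm R e z = (Matrix.of fun a b => z b (e a)).det := by
  rw [← Matrix.det_transpose]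
  rfl

theorem apply_mem_minors_smul {N : Type*} [AddCommGroup N] [Module R N] {L : Submodule R (Fin n → R)} {m : ℕ}
    (f : (Fin n → R) [⋀^Fin m]→ₗ[R] N) (z : Fin m → Fin n → R) (hz : ∀ j, z j ∈ L) :
    f z ∈ minors L m • (⊤ : Submodule R N) := by
  classical
  let B := (Pi.basisFun R (Fin n)).exteriorPower m
  rw [show f z = exteriorPower.alternatingMapLinearEquiv f (exteriorPower.ιMulti R m z) from
    (exteriorPower.alternatingMapLinearEquiv_apply_ιMulti f z).symm,
    ← B.sum_repr (exteriorPower.ιMulti R m z), map_sum]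
  refine Submodule.sum_mem _ fun s _ => ?_
  rw [map_smul, exteriorPower.basis_repr_apply, exteriorPower.ιMultiDual_apply_ιMulti]
  refine Submodule.smul_mem_smul ?_ trivial
  rw [← Matrix.det_transpose]
  exact det_mem_minors z (Set.powersetCard.ofFinEmbEquiv.symm s) hz

theorem apply_mem_minors {L : Submodule R (Fin n → R)} {m : ℕ}
    (f : (Fin n → R) [⋀^Fin m]→ₗ[R] R) (z : Fin m → Fin n → R) (hz : ∀ j, z j ∈ L) :
    f z ∈ minors L m := by
  simpa [smul_eq_mul, Ideal.mul_top] using apply_mem_minors_smul f z hz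

theorem minors_zero (L : Submodule R (Fin n → R)) : minors L 0 = ⊤ :=
  (Ideal.eq_top_iff_one _).2 <| by
    simpa using det_mem_minors (L := L) Fin.elim0 Fin.elim0 (fun j => j.elim0)

theorem minors_succ_le (L : Submodule R (Fin n → R)) (m : ℕ) : minors L (m + 1) ≤ minors L m := by
  refine minors_le_iff.2 fun z e hz => ?_
  rw [Matrix.det_succ_column_zero]
  refine Submodule.sum_mem _ fun i _ => Ideal.mul_mem_left _ _ ?_
  exact det_mem_minors (fun b => z b.succ) (fun a => e (i.succAbove a)) fun j => hz _

theorem minors_antitone (L : Submodule R (Fin n → R)) : Antitone (minors L) :=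
  antitone_nat_of_succ_le (minors_succ_le L)

theorem minors_mono {L L' : Submodule R (Fin n → R)} (h : L ≤ L') (m : ℕ) : minors L m ≤ minors L' m :=
  minors_le_iff.2 fun z e hz => det_mem_minors z e fun j => h (hz j)

theorem minors_bot {m : ℕ} (hm : 0 < m) : minors (⊥ : Submodule R (Fin n → R)) m = ⊥ := by
  refine eq_bot_iff.2 (minors_le_iff.2 fun z e hz => ?_)
  rw [Ideal.mem_bot]
  refine Matrix.det_eq_zero_of_column_eq_zero ⟨0, hm⟩ fun a => ?_
  have := (Submodule.mem_bot R).1 (hz ⟨0, hm⟩)
  simp [this]

/-- An alternating form evaluated on a tuple with at least `m` entries in `L`. -/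
theorem apply_mem_minors_of_card {L : Submodule R (Fin n → R)} {m N : ℕ}
    (f : (Fin n → R) [⋀^Fin N]→ₗ[R] R) (w : Fin N → Fin n → R) (S : Finset (Fin N))
    (hS : ∀ j ∈ S, w j ∈ L) (hm : m ≤ S.card) : f w ∈ minors L m := by
  induction N with
  | zero =>
    obtain rfl : m = 0 := by simpa [Finset.eq_empty_of_isEmpty S] using hm
    simp [minors_zero]
  | succ N ih =>
    by_cases hall : ∀ j, j ∈ S
    · exact minors_antitone L (hm.trans (by simpa using S.card_le_univ))
        (apply_mem_minors f w fun j => hS j (hall j))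
    · push Not at hall
      obtain ⟨p, hp⟩ := hall
      rw [← Fin.insertNth_self_removeNth p w, AlternatingMap.map_insertNth]
      refine Submodule.smul_of_tower_mem _ _ ?_
      refine ih (f.curryLeft (w p)) (p.removeNth w)
        (S.preimage p.succAbove Fin.succAbove_right_injective.injOn)
        (fun j hj => hS _ (Finset.mem_preimage.1 hj)) ?_
      rw [Finset.card_preimage, Finset.filter_true_of_mem fun x hx => by
        rw [Fin.range_succAbove]; exact fun h => hp (h ▸ hx)]
      exact hm

theorem minors_map_le (φ : (Fin n → R) →ₗ[R] (Fin n' → R)) (L : Submodule R (Fin n → R)) (m : ℕ) :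
    minors (L.map φ) m ≤ minors L m := by
  refine minors_le_iff.2 fun z e hz => ?_
  choose y hy hyz using fun j => Submodule.mem_map.1 (hz j)
  have := apply_mem_minors ((minorForm R e).compLinearMap φ) y hy
  rwa [AlternatingMap.compLinearMap_apply, show (fun i => φ (y i)) = z from funext hyz, minorForm_apply] at this

theorem minors_map_equiv (φ : (Fin n → R) ≃ₗ[R] (Fin n' → R)) (L : Submodule R (Fin n → R)) (m : ℕ) :
    minors (L.map (φ : (Fin n → R) →ₗ[R] (Fin n' → R))) m = minors L m :=
  le_antisymm (minors_map_le _ L m) <| by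
    refine le_trans (le_of_eq ?_) (minors_map_le (φ.symm : (Fin n' → R) →ₗ[R] (Fin n → R)) _ m)
    rw [← Submodule.map_comp, LinearEquiv.comp_coe, LinearEquiv.self_trans_symm, LinearEquiv.refl_toLinearMap,
      Submodule.map_id]

theorem minors_sup_span_le (L : Submodule R (Fin n → R)) (v : Fin n → R) (m : ℕ) :
    minors (L ⊔ Submodule.span R {v}) (m + 1) ≤ minors L m := by
  classical
  refine minors_le_iff.2 fun z e hz => ?_
  rw [← minorForm_apply]
  have hz' : ∀ j, ∃ y ∈ L, ∃ t : R, z j = y + t • v := fun j => by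
    obtain ⟨y, hy, w, hw, h⟩ := Submodule.mem_sup.1 (hz j)
    obtain ⟨t, rfl⟩ := Submodule.mem_span_singleton.1 hw
    exact ⟨y, hy, t, h.symm⟩
  choose y hy t ht using hz'
  rw [show z = y + fun j => t j • v from funext ht,
    show minorForm R e (y + fun j => t j • v) = (minorForm R e).toMultilinearMap (y + fun j => t j • v) from rfl,
    MultilinearMap.map_add_univ]
  refine Submodule.sum_mem _ fun s _ => ?_
  by_cases hs : m ≤ s.card
  · exact apply_mem_minors_of_card (minorForm R e) _ s (fun j hj => by simp [hj, hy j]) hs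
  · obtain ⟨i, hi, j, hj, hij⟩ : ∃ i ∈ sᶜ, ∃ j ∈ sᶜ, i ≠ j := Finset.one_lt_card.1 (by
      rw [Finset.card_compl, Fintype.card_fin]; omega)
    rw [show s.piecewise y (fun j => t j • v) =
      (fun k => (if k ∈ s then 1 else t k) • (if k ∈ s then y k else v)) from funext fun k => by
        by_cases hk : k ∈ s <;> simp [Finset.piecewise, hk], MultilinearMap.map_smul_univ]
    rw [show (minorForm R e).toMultilinearMap (fun k => if k ∈ s then y k else v) = 0 from
      (minorForm R e).map_eq_zero_of_eq _ (by simp [Finset.mem_compl.1 hi, Finset.mem_compl.1 hj]) hij,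
      smul_zero]
    exact zero_mem _

theorem minors_span_le (S : Set (Fin n → R)) (m : ℕ) (I : Ideal R)
    (h : ∀ (z : Fin m → Fin n → R) (e : Fin m → Fin n), (∀ j, z j ∈ S) → (Matrix.of fun a b => z b (e a)).det ∈ I) :
    minors (Submodule.span R S) m ≤ I := by
  classical
  refine minors_le_iff.2 fun z e hz => ?_
  rw [← minorForm_apply]
  choose N c s hs using fun j => Submodule.mem_span_set'.1 (hz j)
  rw [show z = fun j => ∑ i, c j i • (s j i : Fin n → R) from funext fun j => (hs j).symm]
  show (minorForm R e).toMultilinearMap _ ∈ I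
  rw [MultilinearMap.map_sum]
  refine Submodule.sum_mem _ fun r _ => ?_
  rw [MultilinearMap.map_smul_univ, smul_eq_mul]
  refine Ideal.mul_mem_left _ _ ?_
  show minorForm R e _ ∈ I
  rw [minorForm_apply]
  exact h _ e fun j => (s j (r j)).2

/-- Extending by one coordinate and one relation. -/
theorem le_minors_snoc (L : Submodule R (Fin n → R)) (L' : Submodule R (Fin (n + 1) → R)) (c : Fin n → R)
    (hL : ∀ z ∈ L, Fin.snoc (α := fun _ => R) z 0 ∈ L') (hc : Fin.snoc (α := fun _ => R) c (-1) ∈ L') (m : ℕ) :
    minors L m ≤ minors L' (m + 1) := by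
  refine minors_le_iff.2 fun z e hz => ?_
  have h := det_mem_minors (L := L') (Fin.snoc (fun j => Fin.snoc (α := fun _ => R) (z j) 0) (Fin.snoc c (-1)))
    (Fin.snoc (fun a => (e a).castSucc) (Fin.last n))
    (fun j => by induction j using Fin.lastCases with
      | last => simpa using hc
      | cast j => simpa using hL _ (hz j))
  rw [Matrix.det_succ_row _ (Fin.last m), Fin.sum_univ_castSucc] at h
  simp only [Matrix.of_apply, Fin.snoc_last, Fin.snoc_castSucc, mul_zero, zero_mul, Finset.sum_const_zero,
    zero_add] at h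
  have hsub : ∀ k : Fin m, (Fin.last m).succAbove k = k.castSucc := fun k => Fin.succAbove_last_apply k
  have heq : ((Matrix.of fun a b => (Fin.snoc (α := fun _ => Fin (n + 1) → R) (fun j => Fin.snoc (α := fun _ => R) (z j) 0) (Fin.snoc c (-1)) b)
      (Fin.snoc (α := fun _ => Fin (n + 1)) (fun a => (e a).castSucc) (Fin.last n) a)).submatrix
      (Fin.last m).succAbove (Fin.last m).succAbove) = Matrix.of fun a b => z b (e a) := by
    ext a b
    simp [hsub]
  rw [heq] at h
  have h2 := Ideal.mul_mem_left _ (-1) h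
  convert h2 using 1
  rw [← two_mul, pow_mul]
  simp

end GrothLib.Fitting
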