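import Groth.Agent.Lib.Fitting.Basic
import Mathlib.LinearAlgebra.Prod

/-!
Fitting ideals of a product.
-/

set_option autoImplicit false

namespace GrothLib.Fitting

open Function

universe u v v'

variable {R : Type u} [CommRing R]

theorem minors_eq_bot_of_lt {n m : ℕ} (L : Submodule R (Fin n → R)) (h : n < m) : minors L m = ⊥ := by
  refine eq_bot_iff.2 (minors_le_iff.2 fun z e _ => ?_)
  obtain ⟨i, j, hne, hij⟩ := Fintype.exists_ne_map_eq_of_card_lt e (by simpa using h)
  rw [Matrix.det_zero_of_row_eq hne (by ext b; simp [hij]), Ideal.mem_bot]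

/-- Refinement of `apply_mem_minors_of_card` with coefficients in an ideal. -/
theorem apply_mem_minors_mul {n : ℕ} {L : Submodule R (Fin n → R)} {m N : ℕ}
    (f : (Fin n → R) [⋀^Fin N]→ₗ[R] R) (w : Fin N → Fin n → R) (S : Finset (Fin N))
    (hS : ∀ j ∈ S, w j ∈ L) (hm : m ≤ S.card) (I : Ideal R)
    (hI : ∀ v : Fin N → Fin n → R, (∀ j ∉ S, v j = w j) → f v ∈ I) : f w ∈ minors L m * I := by
  induction N with
  | zero =>
    obtain rfl : m = 0 := by simpa [Finset.eq_empty_of_isEmpty S] using hm
    rw [minors_zero, Ideal.top_mul]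
    exact hI w fun _ _ => rfl
  | succ N ih =>
    by_cases hall : ∀ j, j ∈ S
    · refine Ideal.mul_mono_left (minors_antitone L (hm.trans (by simpa using S.card_le_univ))) ?_
      let g : (Fin n → R) [⋀^Fin (N + 1)]→ₗ[R] I :=
        { toFun := fun v => ⟨f v, hI v fun j hj => absurd (hall j) hj⟩
          map_update_add' := fun v i x y => Subtype.ext (f.map_update_add v i x y)
          map_update_smul' := fun v i c x => Subtype.ext (f.map_update_smul v i c x)
          map_eq_zero_of_eq' := fun v i j h hne => Subtype.ext (f.map_eq_zero_of_eq v h hne) }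
      have h := Submodule.mem_map_of_mem (f := Submodule.subtype I) (apply_mem_minors_smul g w fun j => hS j (hall j))
      rw [Submodule.map_smul'', Submodule.map_top, Submodule.range_subtype, smul_eq_mul] at h
      exact h
    · push Not at hall
      obtain ⟨p, hp⟩ := hall
      rw [← Fin.insertNth_self_removeNth p w, AlternatingMap.map_insertNth]
      refine Submodule.smul_of_tower_mem _ _ ?_
      refine ih (f.curryLeft (w p)) (p.removeNth w)
        (S.preimage p.succAbove Fin.succAbove_right_injective.injOn)
        (fun j hj => hS _ (Finset.mem_preimage.1 hj)) ?_ fun v hv => ?_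
      · rw [Finset.card_preimage, Finset.filter_true_of_mem fun x hx => by
          rw [Fin.range_succAbove]; exact fun h => hp (h ▸ hx)]
        exact hm
      · have h := hI (p.insertNth (w p) v) (fun j hj => by
          induction j using Fin.succAboveCases p with
          | x => simp
          | p i => simpa [Fin.removeNth] using hv i (fun hi => hj (Finset.mem_preimage.1 hi)))
        rw [AlternatingMap.map_insertNth] at h
        have h2 := Submodule.smul_of_tower_mem I ((-1 : ℤ) ^ (p : ℕ)) h
        rwa [smul_smul, ← mul_pow, neg_one_mul, neg_neg, one_pow, one_smul] at h2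

variable {n n' : ℕ}

/-- Zero extension on the right. -/
def inlLin (R : Type u) [CommRing R] (n n' : ℕ) : (Fin n → R) →ₗ[R] (Fin (n + n') → R) where
  toFun z := Fin.append z 0
  map_add' a b := by ext i; induction i using Fin.addCases <;> simp
  map_smul' c a := by ext i; induction i using Fin.addCases <;> simp

/-- Zero extension on the left. -/
def inrLin (R : Type u) [CommRing R] (n n' : ℕ) : (Fin n' → R) →ₗ[R] (Fin (n + n') → R) where
  toFun z := Fin.append 0 z
  map_add' a b := by ext i; induction i using Fin.addCases <;> simp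
  map_smul' c a := by ext i; induction i using Fin.addCases <;> simp

theorem minors_sum_le (L : Submodule R (Fin n → R)) (L' : Submodule R (Fin n' → R)) (m : ℕ) (I : Ideal R)
    (h : ∀ i j, i + j = m → i ≤ n → j ≤ n' → minors L i * minors L' j ≤ I) :
    minors (L.map (inlLin R n n') ⊔ L'.map (inrLin R n n')) m ≤ I := by
  classical
  rw [show L.map (inlLin R n n') ⊔ L'.map (inrLin R n n') =
    Submodule.span R ((inlLin R n n' '' L) ∪ (inrLin R n n' '' L')) by
      rw [Submodule.span_union, ← Submodule.map_coe, ← Submodule.map_coe, Submodule.span_eq, Submodule.span_eq]]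
  refine minors_span_le _ _ _ fun z e hz => ?_
  let S : Finset (Fin m) := Finset.univ.filter fun j => z j ∈ inlLin R n n' '' (L : Set (Fin n → R))
  have hcard : S.card + (Finset.univ \ S).card = m := by
    rw [Finset.card_sdiff, Finset.inter_univ, Finset.card_univ, Fintype.card_fin]
    have := S.card_le_univ
    rw [Fintype.card_fin] at this
    omega
  have h1 : minorForm R e z ∈ minors L S.card * minors L' (Finset.univ \ S).card := by
    refine Ideal.mul_mono (minors_map_le (inlLin R n n') L _) (minors_map_le (inrLin R n n') L' _) ?_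
    refine apply_mem_minors_mul (minorForm R e) z S (fun j hj => ?_) le_rfl _ fun v hv => ?_
    · exact (Finset.mem_filter.1 hj).2
    · refine apply_mem_minors_of_card (minorForm R e) v (Finset.univ \ S) (fun j hj => ?_) le_rfl
      have hj' : j ∉ S := (Finset.mem_sdiff.1 hj).2
      rw [hv j hj']
      exact (hz j).resolve_left fun hl => hj' (Finset.mem_filter.2 ⟨Finset.mem_univ _, hl⟩)
  rw [minorForm_apply] at h1
  rcases lt_or_ge n S.card with hlt | hle
  · rw [minors_eq_bot_of_lt L hlt, Ideal.bot_mul, Ideal.mem_bot] at h1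
    rw [h1]
    exact zero_mem _
  rcases lt_or_ge n' (Finset.univ \ S).card with hlt | hle'
  · rw [minors_eq_bot_of_lt L' hlt, Ideal.mul_bot, Ideal.mem_bot] at h1
    rw [h1]
    exact zero_mem _
  exact h _ _ hcard hle hle' h1

theorem mul_minors_le (L : Submodule R (Fin n → R)) (L' : Submodule R (Fin n' → R)) (i j : ℕ) :
    minors L i * minors L' j ≤ minors (L.map (inlLin R n n') ⊔ L'.map (inrLin R n n')) (i + j) := by
  conv_lhs => rw [minors, minors, Ideal.span_mul_span']
  refine Ideal.span_le.2 ?_
  rintro _ ⟨_, ⟨z, e, hz, rfl⟩, _, ⟨z', e', hz', rfl⟩, rfl⟩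
  have h := det_mem_minors (L := L.map (inlLin R n n') ⊔ L'.map (inrLin R n n'))
    (Fin.append (fun b => inlLin R n n' (z b)) (fun b => inrLin R n n' (z' b)))
    (Fin.append (fun a => Fin.castAdd n' (e a)) (fun a => Fin.natAdd n (e' a)))
    (fun k => by
      induction k using Fin.addCases with
      | left k => simpa using Submodule.mem_sup_left (Submodule.mem_map_of_mem (hz k))
      | right k => simpa using Submodule.mem_sup_right (Submodule.mem_map_of_mem (hz' k)))
  rw [← Matrix.det_reindex_self finSumFinEquiv.symm] at h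
  rw [SetLike.mem_coe]
  convert h using 1
  show (Matrix.of fun a b => z b (e a)).det * (Matrix.of fun a b => z' b (e' a)).det = _
  rw [← Matrix.det_fromBlocks_zero₂₁ _ 0 _]
  congr 1
  ext (a | a) (b | b) <;> simp [inlLin, inrLin]

theorem ideal_prod (M : Type v) (M' : Type v') [AddCommGroup M] [Module R M] [AddCommGroup M'] [Module R M']
    [Module.Finite R M] [Module.Finite R M'] (l : ℕ) :
    Fitt.ideal R (M × M') l = ∑ k ∈ Finset.range (l + 1), Fitt.ideal R M k * Fitt.ideal R M' (l - k) := by
  obtain ⟨n, x, hx⟩ := exists_tuple R M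
  obtain ⟨n', x', hx'⟩ := exists_tuple R M'
  let X : Fin (n + n') → M × M' := Fin.append (fun i => (x i, 0)) (fun i => (0, x' i))
  have hX : Submodule.span R (Set.range X) = ⊤ := by
    rw [show Set.range X = LinearMap.inl R M M' '' Set.range x ∪ LinearMap.inr R M M' '' Set.range x' by
      rw [← Set.range_comp, ← Set.range_comp]
      ext y
      constructor
      · rintro ⟨i, rfl⟩
        induction i using Fin.addCases with
        | left i => exact Or.inl ⟨i, by simp [X]⟩
        | right i => exact Or.inr ⟨i, by simp [X]⟩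
      · rintro (⟨i, rfl⟩ | ⟨i, rfl⟩)
        · exact ⟨Fin.castAdd n' i, by simp [X]⟩
        · exact ⟨Fin.natAdd n i, by simp [X]⟩,
      LinearMap.span_inl_union_inr, hx, hx', Submodule.prod_top]
  have hrel : rel (R := R) X = (rel (R := R) x).map (inlLin R n n') ⊔ (rel (R := R) x').map (inrLin R n n') := by
    refine le_antisymm (fun z hz => ?_) (sup_le ?_ ?_)
    · rw [mem_rel, Fin.sum_univ_add] at hz
      simp only [X, Fin.append_left, Fin.append_right, Prod.smul_mk, smul_zero, ← prod_mk_sum,
        Finset.sum_const_zero, Prod.mk_add_mk, add_zero, zero_add, Prod.mk_eq_zero] at hz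
      refine Submodule.mem_sup.2 ⟨_, Submodule.mem_map_of_mem (mem_rel.2 hz.1 : (fun i => z (Fin.castAdd n' i)) ∈ _), _,
        Submodule.mem_map_of_mem (mem_rel.2 hz.2 : (fun i => z (Fin.natAdd n i)) ∈ _), ?_⟩
      ext i
      induction i using Fin.addCases <;> simp [inlLin, inrLin]
    · rintro _ ⟨z, hz, rfl⟩
      rw [mem_rel, Fin.sum_univ_add]
      simp [X, inlLin, mem_rel.1 hz, ← prod_mk_sum]
    · rintro _ ⟨z, hz, rfl⟩
      rw [mem_rel, Fin.sum_univ_add]
      simp [X, inrLin, mem_rel.1 hz, ← prod_mk_sum]
  rw [ideal_eq_minors X hX, hrel]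
  refine le_antisymm (minors_sum_le _ _ _ _ fun i j hij hi hj => ?_) ?_
  · have hk : n - i ∈ Finset.range (l + 1) := Finset.mem_range.2 (by omega)
    refine le_trans ?_ (Finset.single_le_sum (f := fun k => Fitt.ideal R M k * Fitt.ideal R M' (l - k))
      (fun _ _ => bot_le) hk)
    rw [ideal_eq_minors x hx, ideal_eq_minors x' hx']
    exact Ideal.mul_mono (minors_antitone _ (by omega)) (minors_antitone _ (by omega))
  · rw [Ideal.sum_eq_sup]
    refine Finset.sup_le fun k hk => ?_
    rw [Finset.mem_range] at hk
    rw [ideal_eq_minors x hx, ideal_eq_minors x' hx']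
    exact (mul_minors_le _ _ _ _).trans (minors_antitone _ (by omega))

end GrothLib.Fitting
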