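import Groth.Agent.Lib.Fitting.Transform
import Groth.Agent.Lib.LocalFP.Basic
import Mathlib.CategoryTheory.Abelian.Projective.Dimension
import Mathlib.Algebra.Category.ModuleCat.Projective
import Mathlib.Algebra.Category.ModuleCat.EnoughInjectives
import Mathlib.Algebra.Homology.ShortComplex.ModuleCat

/-!
Modules with `Fit_{k-1} = 0` and `Fit_k = (f)`, `f` regular.
-/

set_option autoImplicit false
open CategoryTheory

namespace GrothLib.Fitting

universe u

variable {R : Type u} [CommRing R] {M : Type u} [AddCommGroup M] [Module R M]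

theorem projective_rel [Module.Finite R M] {n : ℕ} (x : Fin n → M) (hx : Submodule.span R (Set.range x) = ⊤)
    (k : ℕ) (f : R) (hf0 : f ∈ nonZeroDivisors R) (hf : Fitt.ideal R M k = Ideal.span {f})
    (hk : k = 0 ∨ Fitt.ideal R M (k - 1) = ⊥) : Module.Projective R (rel (R := R) x) := by
  classical
  set L := rel (R := R) x
  have hreg : ∀ y : R, f * y = 0 → y = 0 := mem_nonZeroDivisors_iff_left.1 hf0
  rw [ideal_eq_minors x hx] at hf
  let G := {p : (Fin (n - k) → L) × (Fin (n - k) → Fin n) // Function.Injective p.2}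
  have hdvd : ∀ (z : Fin (n - k) → Fin n → R) (e : Fin (n - k) → Fin n), (∀ j, z j ∈ L) →
      f ∣ (Matrix.of fun a b => z b (e a)).det := fun z e hz =>
    Ideal.mem_span_singleton.1 (hf ▸ det_mem_minors z e hz)
  let A : G → Matrix (Fin (n - k)) (Fin (n - k)) R := fun p =>
    Matrix.of fun a b => (p.1.1 b : Fin n → R) (p.1.2 a)
  choose c hc using fun p : G => hdvd (fun b => p.1.1 b) p.1.2 fun b => (p.1.1 b).2
  have hD : ∀ (p : G) (b : Fin (n - k)) (w : L),
      f ∣ (A p).cramer (fun a => (w : Fin n → R) (p.1.2 a)) b := fun p b w => by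
    rw [Matrix.cramer_apply]
    convert hdvd (Function.update (fun b => (p.1.1 b : Fin n → R)) b w) p.1.2 (fun j => by
      by_cases h : j = b
      · subst h; simp
      · simp [h, Function.update_of_ne]) using 2
    ext a j
    by_cases h : j = b
    · subst h; simp [A]
    · simp [A, h, Matrix.updateCol_ne, Function.update_of_ne]
  choose μ hμ using hD
  have hμlin : ∀ (p : G) (b : Fin (n - k)), IsLinearMap R (μ p b) := fun p b => by
    constructor
    · intro v w
      refine sub_eq_zero.1 (hreg _ ?_)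
      rw [mul_sub, mul_add, ← hμ, ← hμ, ← hμ, show (fun a => ((v + w : L) : Fin n → R) (p.1.2 a)) =
        (fun a => (v : Fin n → R) (p.1.2 a)) + fun a => (w : Fin n → R) (p.1.2 a) from rfl, map_add, Pi.add_apply,
        sub_self]
    · intro r v
      refine sub_eq_zero.1 (hreg _ ?_)
      rw [mul_sub, smul_eq_mul, mul_left_comm f r, ← hμ, ← hμ, show (fun a => ((r • v : L) : Fin n → R) (p.1.2 a)) =
        r • fun a => (v : Fin n → R) (p.1.2 a) from rfl, map_smul, Pi.smul_apply, smul_eq_mul, sub_self]
  have key : ∀ (p : G) (w : L), c p ^ 2 • w = c p • ∑ b, μ p b w • p.1.1 b := fun p w => by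
    let u : L := c p • w - ∑ b, μ p b w • p.1.1 b
    have hu : ∀ i, f * (u : Fin n → R) i = (A p).det * (w : Fin n → R) i -
        ∑ b, (A p).cramer (fun a => (w : Fin n → R) (p.1.2 a)) b * (p.1.1 b : Fin n → R) i := fun i => by
      simp only [u, Submodule.coe_sub, Submodule.coe_smul, Submodule.coe_sum, Pi.sub_apply, Finset.sum_apply,
        Pi.smul_apply, smul_eq_mul, mul_sub, Finset.mul_sum, ← mul_assoc, ← hμ, A, ← hc]
    have hu0 : ∀ a, (u : Fin n → R) (p.1.2 a) = 0 := fun a => hreg _ (by
      rw [hu, sub_eq_zero]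
      have h := congrFun (Matrix.mulVec_cramer (A p) fun a => (w : Fin n → R) (p.1.2 a)) a
      simp only [Matrix.mulVec, dotProduct, Pi.smul_apply, smul_eq_mul] at h
      rw [← h]
      exact Finset.sum_congr rfl fun b _ => mul_comm _ _)
    suffices hz : c p • u = 0 by
      simpa [u, smul_sub, smul_smul, sq, sub_eq_zero] using hz
    refine Subtype.ext (funext fun i => hreg _ ?_)
    show f * (c p * (u : Fin n → R) i) = 0
    rw [← mul_assoc, ← hc]
    rcases hk with rfl | hk
    · obtain ⟨a, rfl⟩ := (Fintype.bijective_iff_injective_and_card p.1.2).2 ⟨p.2, by simp⟩ |>.2 i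
      rw [hu0, mul_zero]
    rcases lt_or_ge n k with hnk | hnk
    · have h1 : Fitt.ideal R M (k - 1) = ⊤ := ideal_eq_top_of_le x hx (by omega)
      have : Subsingleton R := (Submodule.subsingleton_iff R).1 (subsingleton_iff_bot_eq_top.1 (hk.symm.trans h1))
      exact Subsingleton.elim _ _
    · rcases Nat.eq_zero_or_pos k with rfl | hk0
      · obtain ⟨a, rfl⟩ := (Fintype.bijective_iff_injective_and_card p.1.2).2 ⟨p.2, by simp⟩ |>.2 i
        rw [hu0, mul_zero]
      have h1 := det_mem_minors (L := L) (Fin.snoc (α := fun _ => Fin n → R) (fun b => (p.1.1 b : Fin n → R)) (u : Fin n → R))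
        (Fin.snoc (α := fun _ => Fin n) p.1.2 i) (fun j => by
          induction j using Fin.lastCases with
          | last => simp
          | cast j => simp)
      have hz : minors L (n - k + 1) = ⊥ := by rw [show n - k + 1 = n - (k - 1) by omega, ← ideal_eq_minors x hx, hk]
      rw [hz, Ideal.mem_bot] at h1
      rw [Matrix.det_succ_column _ (Fin.last (n - k)), Fin.sum_univ_castSucc] at h1
      simp only [Matrix.of_apply, Fin.snoc_last, Fin.snoc_castSucc, hu0, mul_zero, zero_mul,
        Finset.sum_const_zero, zero_add] at h1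
      rw [← two_mul, pow_mul, neg_one_sq, one_pow, one_mul, mul_comm] at h1
      convert h1 using 3
      ext a b
      simp [Fin.succAbove_last_apply]
  -- the `c p` generate the unit ideal
  have hone : Ideal.span (Set.range c) = ⊤ := by
    have hle : minors L (n - k) ≤ Ideal.span {f} * Ideal.span (Set.range c) := by
      refine minors_le_iff.2 fun z e hz => ?_
      by_cases he : Function.Injective e
      swap
      · obtain ⟨i, j, hij, hne⟩ := Function.not_injective_iff.1 he
        rw [Matrix.det_zero_of_row_eq hne (by ext b; simp [hij])]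
        exact zero_mem _
      exact Ideal.mem_span_singleton_mul.2 ⟨c ⟨(fun j => ⟨z j, hz j⟩, e), he⟩, Ideal.subset_span ⟨_, rfl⟩, (hc _).symm⟩
    obtain ⟨y, hy, hfy⟩ := Ideal.mem_span_singleton_mul.1 (hle (show f ∈ minors L (n - k) by rw [hf]; exact Ideal.subset_span rfl))
    have : y = 1 := sub_eq_zero.1 (hreg _ (by rw [mul_sub, hfy, mul_one, sub_self]))
    exact (Ideal.eq_top_iff_one _).2 (this ▸ hy)
  have hsq := Ideal.span_pow_eq_top _ hone 2
  rw [← Set.range_comp] at hsq
  obtain ⟨r, hr⟩ := Finsupp.mem_ideal_span_range_iff_exists_finsupp.1 ((Ideal.eq_top_iff_one _).1 hsq)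
  let ι := r.support × Fin (n - k)
  let i : L →ₗ[R] (ι → R) :=
    LinearMap.pi fun pb => (r pb.1.1 * c pb.1.1) • (hμlin pb.1.1 pb.2).mk' _
  let s : (ι → R) →ₗ[R] L := Fintype.linearCombination R fun pb : ι => pb.1.1.1.1 pb.2
  refine Module.Projective.of_split i s (LinearMap.ext fun w => ?_)
  rw [LinearMap.comp_apply, LinearMap.id_apply]
  calc s (i w) = ∑ q ∈ r.support, ∑ b, (r q * c q * μ q b w) • q.1.1 b := by
        simp only [s, i, Fintype.linearCombination_apply, LinearMap.pi_apply, LinearMap.smul_apply,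
          IsLinearMap.mk'_apply, smul_eq_mul, ι, Fintype.sum_prod_type]
        exact r.support.sum_coe_sort fun q => ∑ b, (r q * c q * μ q b w) • q.1.1 b
    _ = ∑ q ∈ r.support, (r q * c q ^ 2) • w := Finset.sum_congr rfl fun q _ => by
        simp only [mul_smul, key, Finset.smul_sum]
    _ = w := by
        rw [← Finset.sum_smul]
        rw [Finsupp.sum] at hr
        simp only [Function.comp_apply] at hr
        rw [hr, one_smul]

theorem hasProjectiveDimensionLT_two [Module.Finite R M] {n : ℕ} (x : Fin n → M)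
    (hx : Submodule.span R (Set.range x) = ⊤) (h : Module.Projective R (rel (R := R) x)) :
    HasProjectiveDimensionLT (ModuleCat.of R M) 2 := by
  let g := Fintype.linearCombination R x
  have hg : Function.Surjective g :=
    LinearMap.range_eq_top.1 (by rw [Fintype.range_linearCombination, hx])
  let S : ShortComplex (ModuleCat.{u} R) :=
    ModuleCat.shortComplexOfCompEqZero (rel (R := R) x).subtype g (LinearMap.ext fun z => z.2)
  have hS : S.ShortExact := ModuleCat.shortComplex_shortExact S
    (LinearMap.exact_subtype_ker_map g) (Submodule.injective_subtype _) hg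
  have : Projective (ModuleCat.of R (rel (R := R) x)) := (IsProjective.iff_projective _).1 h
  have : Projective (ModuleCat.of R (Fin n → R)) := (IsProjective.iff_projective _).1 inferInstance
  have h1 : HasProjectiveDimensionLT S.X₁ 1 := inferInstanceAs (HasProjectiveDimensionLT (ModuleCat.of R (rel (R := R) x)) 1)
  have h20 : HasProjectiveDimensionLT (ModuleCat.of R (Fin n → R)) 1 := inferInstance
  have h2 : HasProjectiveDimensionLT S.X₂ 2 := hasProjectiveDimensionLT_of_ge (ModuleCat.of R (Fin n → R)) 1 2 (by norm_num)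
  exact hS.hasProjectiveDimensionLT_X₃ 1 h1 h2

theorem split_of_ideal_eq [Module.FinitePresentation R M] (k : ℕ) (f : R) (hf0 : f ∈ nonZeroDivisors R)
    (hf : Fitt.ideal R M k = Ideal.span {f}) (hk : k = 0 ∨ Fitt.ideal R M (k - 1) = ⊥) :
    let T := LinearMap.ker (f • (LinearMap.id : M →ₗ[R] M))
    HasProjectiveDimensionLT (ModuleCat.of R M) 2 ∧
    (∀ x : M, (∃ m : ℕ, f ^ m • x = 0) ↔ f • x = 0) ∧
    HasProjectiveDimensionLT (ModuleCat.of R T) 2 ∧
    (∀ (p : Ideal R) [p.IsPrime], ∃ g : R, g ∉ p ∧
      Module.Free (Localization.Away g) (LocalizedModule (Submonoid.powers g) (M ⧸ T)) ∧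
        Module.finrank (Localization.Away g) (LocalizedModule (Submonoid.powers g) (M ⧸ T)) = k) ∧
    Nonempty (M ≃ₗ[R] (M ⧸ T) × T) := by
  intro T
  obtain ⟨n, x, hx⟩ := exists_tuple R M
  have hpd := hasProjectiveDimensionLT_two x hx (projective_rel x hx k f hf0 hf hk)
  have hT : ∀ m, m ∈ T ↔ f • m = 0 := fun m => by simp [T]
  have hTle : T ≤ FlatCA.powTorsion R f M := fun m hm =>
    (mem_powTorsion_iff f m).2 ⟨1, by rw [pow_one]; exact (hT m).1 hm⟩
  have htop : Fitt.ideal R (M ⧸ T) k = ⊤ := ideal_eq_top_of_span_eq k T.mkQ T.mkQ_surjective f 1 hf0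
    (fun m hm => (Submodule.Quotient.mk_eq_zero _).2 ((hT m).2 hm))
    (fun d hd => by rw [one_mul, ← Ideal.mem_span_singleton, ← hf]; exact hd)
    ⟨f, hf ▸ Ideal.subset_span rfl, one_mul f⟩
  have hlow : ∀ j, j < k → Fitt.ideal R (M ⧸ T) j = ⊥ := fun j hj => by
    refine ideal_quotient_eq_bot j f hf0 ?_ T hTle
    rcases hk with rfl | hk
    · omega
    exact le_bot_iff.1 (hk ▸ ideal_mono (show j ≤ k - 1 by omega))
  have hfree := fun (p : Ideal R) [p.IsPrime] => free_near_of_ideal_eq k hlow htop p
  let s : Set R := {g | Module.Free (Localization.Away g) (LocalizedModule (Submonoid.powers g) (M ⧸ T))}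
  have hs : Ideal.span s = ⊤ := by
    by_contra hne
    obtain ⟨p, hp, hle⟩ := Ideal.exists_le_maximal _ hne
    obtain ⟨g, hg, hgf, -⟩ := hfree p
    exact hg (hle (Ideal.subset_span hgf))
  obtain ⟨-, hproj⟩ := GrothLib.LocalFP.finite_projective_of_localizationSpan_free (M ⧸ T) s hs fun g =>
    ⟨Module.Finite.of_isLocalizedModule (Submonoid.powers g.1)
      (LocalizedModule.mkLinearMap (Submonoid.powers g.1) (M ⧸ T)), g.2⟩
  obtain ⟨σ, hσ⟩ := Module.projective_lifting_property T.mkQ LinearMap.id T.mkQ_surjective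
  have hσ' : ∀ q, Submodule.Quotient.mk (σ q) = q := fun q => LinearMap.congr_fun hσ q
  let π : M →ₗ[R] T := (LinearMap.id - σ ∘ₗ T.mkQ).codRestrict T fun m => by
    rw [← Submodule.Quotient.mk_eq_zero]
    simp [hσ']
  have hπ : ∀ t : T, π t = t := fun t => by
    ext
    simp [π, (Submodule.Quotient.mk_eq_zero T).2 t.2]
  have hE : Nonempty (M ≃ₗ[R] (M ⧸ T) × T) := by
    refine ⟨LinearEquiv.ofBijective (T.mkQ.prod π) ⟨?_, ?_⟩⟩
    · rw [injective_iff_map_eq_zero]
      intro m hm
      have h1 : (Submodule.Quotient.mk m : M ⧸ T) = 0 := congrArg Prod.fst hm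
      have h2 := congrArg Subtype.val (congrArg Prod.snd hm)
      simpa [π, h1] using h2
    · rintro ⟨q, t⟩
      refine ⟨σ q + t, Prod.ext ?_ (Subtype.ext ?_)⟩
      · simp [hσ', (Submodule.Quotient.mk_eq_zero T).2 t.2]
      · simp [π, hσ', (Submodule.Quotient.mk_eq_zero T).2 t.2]
  have hinj : ∀ q : M ⧸ T, f • q = 0 → q = 0 := fun q hq => by
    obtain ⟨ι, hι⟩ := (Module.projective_def.1 hproj)
    refine hι.injective (Finsupp.ext fun i => ?_)
    have h1 := congrArg (fun v => v i) (congrArg ι hq)
    simp only [map_smul, map_zero, Finsupp.smul_apply, Finsupp.zero_apply, smul_eq_mul] at h1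
    rw [map_zero, Finsupp.zero_apply]
    exact (mem_nonZeroDivisors_iff_left.1 hf0) _ h1
  refine ⟨hpd, fun m => ⟨?_, fun h => ⟨1, by rw [pow_one]; exact h⟩⟩, ?_, hfree, hE⟩
  · rintro ⟨j, hj⟩
    refine (hT m).1 ((Submodule.Quotient.mk_eq_zero T).1 ?_)
    have hz : f ^ j • (Submodule.Quotient.mk m : M ⧸ T) = 0 := by
      rw [← Submodule.Quotient.mk_smul, hj, Submodule.Quotient.mk_zero]
    clear hj
    induction j with
    | zero => simpa using hz
    | succ j ih => exact ih (hinj _ (by rw [smul_smul, ← pow_succ']; exact hz))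
  · exact Retract.hasProjectiveDimensionLT
      { i := ModuleCat.ofHom T.subtype
        r := ModuleCat.ofHom π
        retract := by ext t; exact congrArg Subtype.val (hπ t) } 2

end GrothLib.Fitting
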