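import Groth.Agent.Lib.Fitting.Basic
import Mathlib.LinearAlgebra.Matrix.Adjugate
import Mathlib.Algebra.Module.Torsion.Basic
import Mathlib.RingTheory.Ideal.Colon

/-!
Fitting ideals of a quotient killing `a`-torsion when the Fitting ideal is `(a)`.
-/

set_option autoImplicit false

namespace GrothLib.Fitting

open Function

universe u v v'

variable {R : Type u} [CommRing R] {M : Type v} [AddCommGroup M] [Module R M]
  {N : Type v'} [AddCommGroup N] [Module R N]

/-- If a minor is `g * det = a * c` and the same holds for all minors, then `c ^ m` is in the Fitting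
ideal of any quotient killing the `a`-torsion. -/
theorem pow_mem_ideal_of_minor {n : ℕ} (x : Fin n → M) (hx : Submodule.span R (Set.range x) = ⊤) (k : ℕ)
    (q : M →ₗ[R] N) (hq : Surjective q) (a g : R) (htors : ∀ m : M, a • m = 0 → q m = 0)
    (hdvd : ∀ (z : Fin (n - k) → Fin n → R) (e : Fin (n - k) → Fin n), (∀ j, z j ∈ rel x) →
      a ∣ g * (Matrix.of fun a b => z b (e a)).det)
    (z : Fin (n - k) → Fin n → R) (e : Fin (n - k) → Fin n) (he : Injective e) (hz : ∀ j, z j ∈ rel x)
    (c : R) (hc : g * (Matrix.of fun a b => z b (e a)).det = a * c) :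
    c ^ (n - k) ∈ Fitt.ideal R N k := by
  classical
  let A : Matrix (Fin (n - k)) (Fin (n - k)) R := Matrix.of fun a b => z b (e a)
  choose γ₀ hγ₀ using fun (j : Fin (n - k)) (i : Fin n) => hdvd z (update e j i) hz
  let γ : Fin (n - k) → Fin n → R := fun j =>
    Function.extend e (fun j' => if j' = j then c else 0) (γ₀ j)
  have hrow : ∀ (j : Fin (n - k)) (i : Fin n),
      (A.updateRow j fun b => z b i) = Matrix.of fun a b => z b (update e j i a) := fun j i => by
    ext a b
    by_cases h : a = j
    · subst h; simp [A]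
    · simp [A, h, Matrix.updateRow_ne, update_of_ne]
  have hw : ∀ (j : Fin (n - k)), ∑ i, (Matrix.of fun a b => z b (update e j i a)).det • x i = 0 := fun j => by
    have h1 : ∀ i, (Matrix.of fun a b => z b (update e j i a)).det = ∑ b, A.adjugate b j * z b i := fun i => by
      rw [← hrow, ← Matrix.det_transpose, Matrix.updateCol_transpose.symm, ← Matrix.cramer_apply,
        Matrix.cramer_eq_adjugate_mulVec, ← Matrix.adjugate_transpose]
      simp [Matrix.mulVec, dotProduct]
    simp only [h1, Finset.sum_smul, mul_smul]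
    rw [Finset.sum_comm]
    refine Finset.sum_eq_zero fun b _ => ?_
    rw [← Finset.smul_sum, mem_rel.1 (hz b), smul_zero]
  have hγ : ∀ j i, a * γ j i = g * (Matrix.of fun a b => z b (update e j i a)).det := fun j i => by
    by_cases hi : ∃ j', e j' = i
    · obtain ⟨j', rfl⟩ := hi
      rw [show γ j (e j') = if j' = j then c else 0 from he.extend_apply _ _ _]
      split_ifs with h
      · subst h
        rw [update_eq_self, hc]
      · rw [mul_zero, Matrix.det_zero_of_row_eq (Ne.symm h) (by ext b; simp [update_of_ne h]), mul_zero]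
    · rw [show γ j i = γ₀ j i from Function.extend_apply' _ _ _ hi]
      exact (hγ₀ j i).symm
  have hrelN : ∀ j, γ j ∈ rel (R := R) (q ∘ x) := fun j => by
    rw [mem_rel]
    simp only [comp_apply, ← map_smul, ← map_sum]
    refine htors _ ?_
    rw [Finset.smul_sum, Finset.sum_congr rfl fun i _ => show a • γ j i • x i =
        g • (Matrix.of fun a b => z b (update e j i a)).det • x i by rw [smul_smul, hγ, mul_smul],
      ← Finset.smul_sum, hw j, smul_zero]
  rw [ideal_eq_minors (q ∘ x) (by
    rw [Set.range_comp, ← Submodule.map_span, hx, Submodule.map_top, LinearMap.range_eq_top.2 hq])]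
  have hdet := det_mem_minors γ e hrelN
  convert hdet using 1
  rw [show (Matrix.of fun a b => γ b (e a)) = Matrix.diagonal fun _ => c from by
    ext a b
    rw [Matrix.of_apply, show γ b (e a) = if a = b then c else 0 from he.extend_apply _ _ _]
    rfl, Matrix.det_diagonal, Finset.prod_const, Finset.card_univ, Fintype.card_fin]

/-- Strict transform: if `g · Fit_k(M)` generates `(a)` with `a` regular, then the quotient killing
`a`-torsion has unit `k`-th Fitting ideal. -/
theorem ideal_eq_top_of_span_eq (k : ℕ) [Module.Finite R M] (q : M →ₗ[R] N) (hq : Surjective q) (a g : R)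
    (ha : a ∈ nonZeroDivisors R) (htors : ∀ m : M, a • m = 0 → q m = 0)
    (hle : ∀ d ∈ Fitt.ideal R M k, a ∣ g * d) (hmem : ∃ d ∈ Fitt.ideal R M k, g * d = a) :
    Fitt.ideal R N k = ⊤ := by
  obtain ⟨n, x, hx⟩ := exists_tuple R M
  rw [ideal_eq_minors x hx] at hle hmem
  have hJ : minors (rel (R := R) x) (n - k) ≤
      Submodule.comap (LinearMap.mulLeft R g) (Ideal.span {a} * (Fitt.ideal R N k).radical) := by
    refine minors_le_iff.2 fun z e hz => ?_
    rw [Submodule.mem_comap, LinearMap.mulLeft_apply]
    by_cases he : Injective e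
    swap
    · obtain ⟨i, j, hij, hne⟩ := Function.not_injective_iff.1 he
      rw [Matrix.det_zero_of_row_eq hne (by ext b; simp [hij]), mul_zero]
      exact zero_mem _
    obtain ⟨c, hc⟩ := hle _ (det_mem_minors z e hz)
    rw [hc, Ideal.mem_span_singleton_mul]
    exact ⟨c, ⟨_, pow_mem_ideal_of_minor x hx k q hq a g htors
      (fun z' e' hz' => hle _ (det_mem_minors z' e' hz')) z e he hz c hc⟩, rfl⟩
  obtain ⟨d, hd, hgd⟩ := hmem
  have h := hJ hd
  rw [Submodule.mem_comap, LinearMap.mulLeft_apply, hgd, Ideal.mem_span_singleton_mul] at h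
  obtain ⟨c, hc, hac⟩ := h
  have hc1 : c = 1 := by
    have h0 : a * (c - 1) = 0 := by rw [mul_sub, hac, mul_one, sub_self]
    exact sub_eq_zero.1 ((mem_nonZeroDivisors_iff_left.1 ha) _ h0)
  rw [← Ideal.radical_eq_top, Ideal.eq_top_iff_one, ← hc1]
  exact hc

end GrothLib.Fitting
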